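/-
The polar space of a class of 3-transpositions: lines and axioms.

Main definitions: `line D a b`, `Polar D s` (lines have `s` points and meet every perpendicular).
-/
import Cfsg.Agent.Lib.ThreeTrans.Structure

set_option autoImplicit false

namespace Cfsg.Agent.FischerPolar

open Cfsg Cfsg.Agent.ThreeTrans Cfsg.Agent.ThreeTransRank

variable {G : Type*} [Group G] {D : Set G}

/-- The members commuting with all members that commute with both `a` and `b`. -/
def line (D : Set G) (a b : G) : Set G :=
  {v | v ∈ D ∧ ∀ e ∈ D, Commute e a → Commute e b → Commute e v}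

/-- Lines have `s` points, and every member commutes with a point of every line. -/
structure Polar (D : Set G) (s : ℕ) : Prop where
  cls : IsThreeTranspositionClass D
  rad : TrivialRadical G
  conn : ConnectedComm D
  card : ∀ {a b : G}, a ∈ D → b ∈ D → a ≠ b → Commute a b → (line D a b).ncard = s
  hit : ∀ {a b c : G}, a ∈ D → b ∈ D → a ≠ b → Commute a b → c ∈ D →
    ∃ p ∈ line D a b, Commute c p

theorem line_mem {a b v : G} (h : v ∈ line D a b) : v ∈ D := h.1

theorem left_mem {a b : G} (ha : a ∈ D) : a ∈ line D a b := ⟨ha, fun _ _ h _ => h⟩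

theorem right_mem {a b : G} (hb : b ∈ D) : b ∈ line D a b := ⟨hb, fun _ _ _ h => h⟩

theorem line_comm {a b v : G} (ha : a ∈ D) (hb : b ∈ D) (hab : Commute a b)
    (h : v ∈ line D a b) : Commute a v ∧ Commute b v :=
  ⟨h.2 a ha (Commute.refl a) hab, h.2 b hb hab.symm (Commute.refl b)⟩

theorem line_clique {a b v w : G} (ha : a ∈ D) (hb : b ∈ D) (hab : Commute a b)
    (hv : v ∈ line D a b) (hw : w ∈ line D a b) : Commute v w :=
  hw.2 v hv.1 (line_comm ha hb hab hv).1.symm (line_comm ha hb hab hv).2.symm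

theorem line_symm (a b : G) : line D a b = line D b a := by
  ext v
  exact ⟨fun h => ⟨h.1, fun e he h1 h2 => h.2 e he h2 h1⟩,
    fun h => ⟨h.1, fun e he h1 h2 => h.2 e he h2 h1⟩⟩

theorem line_subset {a b p q : G} (hp : p ∈ line D a b) (hq : q ∈ line D a b) :
    line D p q ⊆ line D a b := fun _ hv =>
  ⟨hv.1, fun e he h1 h2 => hv.2 e he (hp.2 e he h1 h2) (hq.2 e he h1 h2)⟩

namespace Polar

variable {s : ℕ} (P : Polar D s)
include P

theorem set : IsThreeTranspositionSet D := P.cls.1

theorem conj : ∀ g : G, ∀ d ∈ D, g * d * g⁻¹ ∈ D := (group_of_class P.cls).2.1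

theorem line_eq [Finite G] {a b p q : G} (ha : a ∈ D) (hb : b ∈ D) (hne : a ≠ b) (hab : Commute a b)
    (hp : p ∈ line D a b) (hq : q ∈ line D a b) (hpq : p ≠ q) : line D p q = line D a b :=
  Set.eq_of_subset_of_ncard_le (line_subset hp hq)
    (by rw [P.card hp.1 hq.1 hpq (line_clique ha hb hab hp hq), P.card ha hb hne hab])
    (Set.toFinite _)

/-- A member commuting with two points of a line commutes with all of it. -/
theorem two [Finite G] {a b p q e v : G} (ha : a ∈ D) (hb : b ∈ D) (hne : a ≠ b) (hab : Commute a b)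
    (hp : p ∈ line D a b) (hq : q ∈ line D a b) (hpq : p ≠ q) (he : e ∈ D) (h₁ : Commute e p)
    (h₂ : Commute e q) (hv : v ∈ line D a b) : Commute e v := by
  rw [← P.line_eq ha hb hne hab hp hq hpq] at hv
  exact hv.2 e he h₁ h₂

/-- The hit is unique. -/
theorem hit_unique [Finite G] {a b p q e v : G} (ha : a ∈ D) (hb : b ∈ D) (hne : a ≠ b)
    (hab : Commute a b) (hp : p ∈ line D a b) (hq : q ∈ line D a b) (he : e ∈ D)
    (hv : v ∈ line D a b) (hev : ¬ Commute e v) (h₁ : Commute e p) (h₂ : Commute e q) : p = q := by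
  by_contra hpq
  exact hev (P.two ha hb hne hab hp hq hpq he h₁ h₂ hv)

end Polar

end Cfsg.Agent.FischerPolar
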