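/-
The unitary space over the field with four elements: reflections and auxiliary vectors.

Main definitions: `K`, `rfl2` (the transvection as a map of vectors), `Unit1`.
Main results: `eq_smul_of_iso_perp`, `mem_span_pair_of_iso_perp`, `exists_unit_perp`,
`exists_unit_perp_three`.
-/
import Cfsg.Agent.Lib.ThreeTransSU.RadicalBound
import Cfsg.Agent.Lib.SU32.Basic

set_option autoImplicit false

namespace Cfsg.Agent.FischerPolar

open Cfsg.Agent.ThreeTransSU Cfsg.Agent.U62Cover
open scoped Matrix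

/-- The field with four elements. -/
abbrev K : Type := Cfsg.Agent.SU32.K4

theorem cardK : Fintype.card K = 4 := Cfsg.Agent.SU32.K4.card_eq

theorem k_add_self : ∀ c : K, c + c = 0 := by decide +kernel
theorem k_sq_sq : ∀ c : K, (c ^ 2) ^ 2 = c := by decide +kernel
theorem k_cube : ∀ c : K, c ≠ 0 → c * c ^ 2 = 1 := by decide +kernel
theorem k_fixed : ∀ c : K, c ^ 2 = c → c = 0 ∨ c = 1 := by decide +kernel
theorem k_sq_eq_zero : ∀ c : K, c ^ 2 = 0 → c = 0 := by decide +kernel
theorem k_inv_sq : ∀ c : K, c ≠ 0 → c⁻¹ = c ^ 2 := by decide +kernel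

variable {m : ℕ}

theorem v_add_self (x : Fin m → K) : x + x = 0 := funext fun i => k_add_self (x i)

theorem v_cancel (x y : Fin m → K) : x + y + y = x := by rw [add_assoc, v_add_self, add_zero]

theorem v_eq_iff {x y : Fin m → K} : x = y ↔ x + y = 0 :=
  ⟨fun h => by rw [h, v_add_self], fun h => by
    calc x = x + y + y := (v_cancel x y).symm
      _ = y := by rw [h, zero_add]⟩

theorem hl (x y z : Fin m → K) : hf (x + y) z = hf x z + hf y z := hf_add_left cardK x y z
theorem hr (x y z : Fin m → K) : hf x (y + z) = hf x y + hf x z := hf_add_right cardK x y z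
theorem sl (c : K) (x y : Fin m → K) : hf (c • x) y = c * hf x y := hf_smul_left cardK c x y
theorem sr (c : K) (x y : Fin m → K) : hf x (c • y) = c ^ 2 * hf x y := hf_smul_right cardK c x y
theorem symm' (x y : Fin m → K) : hf y x = hf x y ^ 2 := hf_symm cardK x y
theorem zl (x : Fin m → K) : hf 0 x = 0 := hf_zero_left cardK x
theorem zr (x : Fin m → K) : hf x 0 = 0 := hf_zero_right cardK x
theorem z_symm {x y : Fin m → K} (h : hf x y = 0) : hf y x = 0 := (hf_eq_zero_symm cardK).1 h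
theorem one_symm {x y : Fin m → K} (h : hf x y = 1) : hf y x = 1 := hf_eq_one_symm cardK h

theorem self_cases (x : Fin m → K) : hf x x = 0 ∨ hf x x = 1 :=
  k_fixed _ ((symm' x x).symm)

theorem iso_smul {v : Fin m → K} (hv : Iso v) {c : K} (hc : c ≠ 0) : Iso (c • v) := hv.smul cardK hc

/-- A vector of norm one. -/
def Unit1 (v : Fin m → K) : Prop := hf v v = 1

theorem Unit1.ne_zero {v : Fin m → K} (h : Unit1 v) : v ≠ 0 := fun e => by
  rw [Unit1, e, zl] at h
  exact zero_ne_one h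

theorem unit_smul {v : Fin m → K} (hv : Unit1 v) {c : K} (hc : c ≠ 0) : Unit1 (c • v) := by
  rw [Unit1, sl, sr, show hf v v = 1 from hv, mul_one, k_cube c hc]

/-- The transvection with centre `u`. -/
def rfl2 (u v : Fin m → K) : Fin m → K := v + hf v u • u

theorem rfl2_of_orth {u v : Fin m → K} (h : hf v u = 0) : rfl2 u v = v := by
  rw [rfl2, h, zero_smul, add_zero]

theorem act_tv_eq {u : Fin m → K} (hu : hf u u = 0) (v : Fin m → K) :
    act (tv cardK u) v = rfl2 u v := act_tv cardK hu v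

theorem rfl2_self {u : Fin m → K} (hu : hf u u = 0) : rfl2 u u = u := rfl2_of_orth hu

theorem hf_rfl2 {u : Fin m → K} (hu : hf u u = 0) (v w : Fin m → K) :
    hf (rfl2 u v) (rfl2 u w) = hf v w := by
  rw [← act_tv_eq hu, ← act_tv_eq hu, act_hf]

theorem rfl2_rfl2 {u : Fin m → K} (hu : hf u u = 0) (v : Fin m → K) : rfl2 u (rfl2 u v) = v := by
  rw [rfl2, rfl2, hl, sl, hu, mul_zero, add_zero, v_cancel]

theorem hf_rfl2_left {u : Fin m → K} (hu : hf u u = 0) (v w : Fin m → K) :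
    hf (rfl2 u v) w = hf v (rfl2 u w) := by
  conv_lhs => rw [← rfl2_rfl2 hu w]
  rw [hf_rfl2 hu]

theorem rfl2_ne_zero {u v : Fin m → K} (hu : hf u u = 0) (hv : v ≠ 0) : rfl2 u v ≠ 0 := fun e => by
  apply hv
  rw [← rfl2_rfl2 hu v, e, rfl2, zl, zero_smul, add_zero]

theorem rfl2_iso {u v : Fin m → K} (hu : hf u u = 0) (hv : Iso v) : Iso (rfl2 u v) :=
  ⟨rfl2_ne_zero hu hv.1, by rw [hf_rfl2 hu, hv.2]⟩

theorem rfl2_unit {u v : Fin m → K} (hu : hf u u = 0) (hv : Unit1 v) : Unit1 (rfl2 u v) := by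
  rw [Unit1, hf_rfl2 hu]; exact hv

theorem rfl2_add (u v w : Fin m → K) : rfl2 u (v + w) = rfl2 u v + rfl2 u w := by
  rw [rfl2, rfl2, rfl2, hl, add_smul]; abel

theorem rfl2_smul (u : Fin m → K) (c : K) (v : Fin m → K) : rfl2 u (c • v) = c • rfl2 u v := by
  rw [rfl2, rfl2, sl, smul_add, smul_smul]

theorem rfl2_centre {u : Fin m → K} {c : K} (hc : c ≠ 0) (v : Fin m → K) :
    rfl2 (c • u) v = rfl2 u v := by
  rw [rfl2, rfl2, sr, smul_smul, mul_comm (c ^ 2) (hf v u), mul_assoc, mul_comm (c ^ 2) c,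
    k_cube c hc, mul_one]

/-- Conjugation of transvections. -/
theorem rfl2_conj {d e : Fin m → K} (hd : hf d d = 0) (x : Fin m → K) :
    rfl2 (rfl2 d e) x = rfl2 d (rfl2 e (rfl2 d x)) := by
  rw [show rfl2 e (rfl2 d x) = rfl2 d x + hf (rfl2 d x) e • e from rfl, rfl2_add, rfl2_rfl2 hd,
    rfl2_smul, hf_rfl2_left hd]
  rfl

/-- The two centres give proportional images. -/
theorem rfl2_swap {u v : Fin m → K} (h : hf v u ≠ 0) :
    rfl2 u v = hf v u • rfl2 v u := by
  rw [rfl2, rfl2, smul_add, smul_smul, symm' v u, k_cube _ h, one_smul, add_comm]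

/-! ### Detecting vectors by isotropic perpendiculars -/

/-- Three isotropic combinations of an orthonormal pair detect both coordinates. -/
theorem hf_eq_zero_of_pair {e₁ e₂ x : Fin m → K} (h₁ : hf e₁ e₁ = 1) (h₂ : hf e₂ e₂ = 1)
    (h₁₂ : hf e₁ e₂ = 0) (h : ∀ c : K, c ≠ 0 → Iso (e₁ + c • e₂) → hf (e₁ + c • e₂) x = 0) :
    hf e₁ x = 0 ∧ hf e₂ x = 0 := by
  have hiso : ∀ c : K, c ≠ 0 → Iso (e₁ + c • e₂) := by
    intro c hc
    refine ⟨fun e => ?_, ?_⟩
    · have h3 := congrArg (fun y => hf y e₁) e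
      simp only [hl, sl, zl, h₁, z_symm h₁₂, mul_zero, add_zero] at h3
      exact one_ne_zero h3
    · rw [hl, hr, hr, sl, sl, sr, sr, h₁, h₂, h₁₂, z_symm h₁₂, mul_zero, mul_zero, add_zero,
        zero_add, mul_one, k_cube c hc, k_add_self]
  have key : ∀ p q : K, (∀ c : K, c ≠ 0 → p + c * q = 0) → p = 0 ∧ q = 0 := by decide +kernel
  refine key _ _ fun c hc => ?_
  have := h c hc (hiso c hc)
  rwa [hl, sl] at this

theorem orth_coeff_zero {k : ℕ} {w : Fin k → (Fin m → K)}
    (hw : Cfsg.Agent.Unitary.Orthonormal (Cfsg.hermForm m K 2) w) (hk : 2 ≤ k) {x : Fin m → K}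
    (h : ∀ i j, i ≠ j → ∀ c : K, c ≠ 0 → Iso (w i + c • w j) → hf (w i + c • w j) x = 0) :
    ∀ i, hf x (w i) = 0 := by
  intro i
  obtain ⟨j, hj⟩ : ∃ j : Fin k, i ≠ j := by
    by_cases h0 : i.val = 0
    · exact ⟨⟨1, by omega⟩, fun e => by simp [e] at h0⟩
    · exact ⟨⟨0, by omega⟩, fun e => h0 (by simp [e])⟩
  exact z_symm (hf_eq_zero_of_pair (hw.1 i) (hw.1 j) (hw.2 hj) (h i j hj)).1

theorem eq_zero_of_coeff {v z : Fin m → K} {k : ℕ} {w : Fin k → (Fin m → K)}
    (hsum : ∀ x, hf x v = 0 → hf x z = 0 → x = ∑ i, hf x (w i) • w i)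
    {x : Fin m → K} (h1 : hf x v = 0) (h2 : hf x z = 0) (h3 : ∀ i, hf x (w i) = 0) : x = 0 := by
  rw [hsum x h1 h2]
  exact Finset.sum_eq_zero fun i _ => by rw [h3, zero_smul]

/-- A vector perpendicular to every isotropic vector perpendicular to a hyperbolic pair lies in
their span. -/
theorem mem_span_pair_of_iso_perp (hm : 4 ≤ m) {p q x : Fin m → K} (hp : Iso p) (hq : Iso q)
    (hpq : hf p q = 1) (h : ∀ b, Iso b → hf b p = 0 → hf b q = 0 → hf b x = 0) :
    x = hf x q • p + hf x p • q := by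
  obtain ⟨w, hw, hwp, hwq, hsum⟩ := exists_frame cardK (m := m - 2) (by omega) hp
    (z := q) ⟨hq.2, hpq⟩
  rw [v_eq_iff]
  have hqp := one_symm hpq
  refine eq_zero_of_coeff hsum ?_ ?_ fun i => ?_
  · rw [hl, hl, sl, sl, hp.2, hqp, mul_zero, zero_add, mul_one, k_add_self]
  · rw [hl, hl, sl, sl, hq.2, hpq, mul_zero, add_zero, mul_one, k_add_self]
  · have h0 : hf x (w i) = 0 := orth_coeff_zero hw (by omega) (fun i j _ c _ hiso => by
      refine h _ hiso ?_ ?_
      · rw [hl, sl, hwp, hwp, mul_zero, add_zero]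
      · rw [hl, sl, hwq, hwq, mul_zero, add_zero]) i
    rw [hl, hl, sl, sl, h0, z_symm (hwp i), z_symm (hwq i), mul_zero, mul_zero, add_zero, add_zero]

/-- A vector perpendicular to every isotropic vector perpendicular to `μ` is a multiple of `μ`. -/
theorem eq_smul_of_iso_perp (hm : 4 ≤ m) {μ x : Fin m → K}
    (h : ∀ b, Iso b → hf b μ = 0 → hf b x = 0) : ∃ c : K, x = c • μ := by
  classical
  by_cases hμ0 : hf μ μ = 0
  · by_cases hz : μ = 0
    · subst hz
      obtain ⟨w, hw⟩ := Cfsg.Agent.Unitary.exists_orthonormalBasis (q := 2) (card_sq cardK)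
        (herm cardK) (Cfsg.Agent.Unitary.hermForm_nondeg (card_sq cardK) m)
      refine ⟨0, ?_⟩
      have hc : ∀ i, hf x (w i) = 0 := orth_coeff_zero hw
        (by rw [Module.finrank_fin_fun]; omega) fun i j _ c _ hiso => h _ hiso (zr _)
      rw [zero_smul, hw.eq_sum_of_card (herm cardK) (by simp) x]
      exact Finset.sum_eq_zero fun i _ => by
        rw [show Cfsg.hermForm m K 2 x (w i) = 0 from hc i, zero_smul]
    have hμ : Iso μ := ⟨hz, hμ0⟩
    obtain ⟨z, hz', -⟩ := exists_partner cardK (b := (Fin.elim0 : Fin 0 → Fin m → K))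
      linearIndependent_empty_type hμ (fun i => i.elim0) (by
        rw [Set.range_eq_empty, Submodule.span_empty, Submodule.mem_bot]; exact hz)
    obtain ⟨w, hw, hwp, hwq, hsum⟩ := exists_frame cardK (m := m - 2) (by omega) hμ hz'
    refine ⟨hf x z, ?_⟩
    rw [v_eq_iff]
    refine eq_zero_of_coeff hsum ?_ ?_ fun i => ?_
    · rw [hl, sl, hμ0, mul_zero, add_zero]
      exact z_symm (h μ hμ hμ0)
    · rw [hl, sl, hz'.2, mul_one, k_add_self]
    · have h0 : hf x (w i) = 0 := orth_coeff_zero hw (by omega) (fun i j _ c _ hiso => by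
        refine h _ hiso ?_
        rw [hl, sl, hwp, hwp, mul_zero, add_zero]) i
      rw [hl, sl, h0, z_symm (hwp i), mul_zero, add_zero]
  · have hμ1 : hf μ μ = 1 := (self_cases μ).resolve_left hμ0
    obtain ⟨c, hc, hcb⟩ := Cfsg.Agent.Unitary.exists_orthonormal_extend (q := 2) (card_sq cardK)
      (herm cardK) (Cfsg.Agent.Unitary.hermForm_nondeg (card_sq cardK) m)
      (b := fun _ : Fin 1 => μ) ⟨fun _ => hμ1, fun i j hij => absurd (Subsingleton.elim i j) hij⟩
      (n := m) (by omega) (le_of_eq (Module.finrank_fin_fun K).symm)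
    set o : Fin m := Fin.castLE (by omega) (0 : Fin 1) with ho
    have h0 : c o = μ := hcb 0
    refine ⟨hf x μ, ?_⟩
    conv_lhs => rw [hc.eq_sum_of_card (herm cardK) (by simp) x]
    rw [Finset.sum_eq_single o]
    · rw [h0]
    · intro i _ hi
      suffices hf (c i) x = 0 by
        rw [show Cfsg.hermForm m K 2 x (c i) = 0 from z_symm this, zero_smul]
      obtain ⟨j, hjo, hji⟩ : ∃ j, j ≠ o ∧ j ≠ i := by
        have : 2 < (Finset.univ : Finset (Fin m)).card := by
          rw [Finset.card_univ, Fintype.card_fin]; omega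
        obtain ⟨j, -, hj⟩ := Finset.exists_mem_notMem_of_card_lt_card
          (s := {o, i}) (t := Finset.univ) (lt_of_le_of_lt Finset.card_le_two this)
        simp only [Finset.mem_insert, Finset.mem_singleton, not_or] at hj
        exact ⟨j, hj.1, hj.2⟩
      refine (hf_eq_zero_of_pair (hc.1 i) (hc.1 j) (hc.2 hji.symm) fun a _ hiso => h _ hiso ?_).1
      rw [← h0, hl, sl, show hf (c i) (c o) = 0 from hc.2 hi,
        show hf (c j) (c o) = 0 from hc.2 hjo, mul_zero, add_zero]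
    · exact fun hn => absurd (Finset.mem_univ _) hn

/-- Separation. -/
theorem exists_iso_sep (hm : 4 ≤ m) {μ x : Fin m → K} (hx : ∀ c : K, x ≠ c • μ) :
    ∃ b, Iso b ∧ hf b μ = 0 ∧ hf b x ≠ 0 := by
  by_contra hcon
  push Not at hcon
  obtain ⟨c, hc⟩ := eq_smul_of_iso_perp hm hcon
  exact hx c hc

/-! ### Unit vectors perpendicular to given ones -/

theorem exists_perp_of_orthonormal {k : ℕ} (hk : k < m) {b : Fin k → (Fin m → K)}
    (hb : Cfsg.Agent.Unitary.Orthonormal (Cfsg.hermForm m K 2) b) :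
    ∃ e, Unit1 e ∧ ∀ i, hf e (b i) = 0 := by
  obtain ⟨e, he, heb⟩ := Cfsg.Agent.Unitary.exists_orthonormal_step (q := 2) (card_sq cardK)
    (herm cardK) (Cfsg.Agent.Unitary.hermForm_nondeg (card_sq cardK) m) hb
    (by rw [Module.finrank_fin_fun]; exact hk)
  exact ⟨e, he, fun i => z_symm (heb i)⟩

theorem orth_three {a b c : Fin m → K} (ha : hf a a = 1) (hb : hf b b = 1) (hc : hf c c = 1)
    (hab : hf a b = 0) (hac : hf a c = 0) (hbc : hf b c = 0) :
    Cfsg.Agent.Unitary.Orthonormal (Cfsg.hermForm m K 2) ![a, b, c] := by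
  refine ⟨fun i => by fin_cases i <;> assumption, fun i j hij => ?_⟩
  fin_cases i <;> fin_cases j <;>
    simp only [ne_eq, not_true_eq_false] at hij ⊢ <;>
    simp [hab, hac, hbc, z_symm hab, z_symm hac, z_symm hbc]

theorem exists_unit_perp (hm : 4 ≤ m) {u : Fin m → K} (hu : Unit1 u) (v : Fin m → K) :
    ∃ k, Unit1 k ∧ hf k u = 0 ∧ hf k v = 0 := by
  set v' := v + hf v u • u with hv'
  have hv'u : hf v' u = 0 := by rw [hv', hl, sl, show hf u u = 1 from hu, mul_one, k_add_self]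
  have back : ∀ k, hf k u = 0 → hf k v' = 0 → hf k v = 0 := by
    intro k h1 h2
    rwa [hv', hr, sr, h1, mul_zero, add_zero] at h2
  rcases self_cases v' with h0 | h1
  · by_cases hz : v' = 0
    · obtain ⟨k, hk, hkb⟩ := exists_perp_of_orthonormal (b := fun _ : Fin 1 => u) (by omega)
        ⟨fun _ => hu, fun i j hij => absurd (Subsingleton.elim i j) hij⟩
      exact ⟨k, hk, hkb 0, back k (hkb 0) (by rw [hz, zr])⟩
    · have hli : LinearIndependent K ![u] := LinearIndependent.of_subsingleton 0 hu.ne_zero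
      obtain ⟨z, hz', hzu⟩ := exists_partner cardK hli ⟨hz, h0⟩
        (fun i => by fin_cases i; exact hv'u) (fun hmem => by
          rw [Matrix.range_cons, Matrix.range_empty, Set.union_empty,
            Submodule.mem_span_singleton] at hmem
          obtain ⟨c, hc⟩ := hmem
          rw [← hc, sl, show hf u u = 1 from hu, mul_one] at hv'u
          exact hz (by rw [← hc, hv'u, zero_smul]))
      obtain ⟨ω, -, hω⟩ := Cfsg.Agent.U62Cover.exists_omega cardK
      have hpo := pair_orthonormal cardK hω ⟨hz, h0⟩ hz'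
      have hcu : ∀ a : K, hf (a • v' + z) u = 0 := fun a => by
        rw [hl, sl, hv'u, show hf z u = 0 from hzu 0, mul_zero, add_zero]
      obtain ⟨k, hk, hkb⟩ := exists_perp_of_orthonormal (b := ![u, pairBasis ω v' z 0,
        pairBasis ω v' z 1]) (by omega)
        (orth_three hu (hpo.1 0) (hpo.1 1) (z_symm (hcu ω)) (z_symm (hcu (ω ^ 2)))
          (hpo.2 (by decide)))
      have e0 : hf k (ω • v' + z) = 0 := hkb 1
      have e1 : hf k (ω ^ 2 • v' + z) = 0 := hkb 2
      refine ⟨k, hk, hkb 0, back k (hkb 0) ?_⟩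
      rw [hr, sr] at e0 e1
      have key : ∀ a b ω : K, ω ^ 2 = ω + 1 → ω ^ 2 * a + b = 0 → (ω ^ 2) ^ 2 * a + b = 0 → a = 0 := by
        decide +kernel
      exact key _ _ _ hω e0 e1
  · obtain ⟨k, hk, hkb⟩ := exists_perp_of_orthonormal (b := ![u, v']) (by omega)
      ⟨fun i => by fin_cases i; exacts [hu, h1], fun i j hij => by
        fin_cases i <;> fin_cases j <;> simp only [ne_eq, not_true_eq_false] at hij ⊢ <;>
          simp [hv'u, z_symm hv'u]⟩
    exact ⟨k, hk, hkb 0, back k (hkb 0) (hkb 1)⟩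

theorem exists_unit_perp_three (hm : 4 ≤ m) {u r k₀ : Fin m → K} (hu : Unit1 u) (hk : Unit1 k₀)
    (hr0 : hf r r = 0) (hru : hf r u = 0) (hku : hf k₀ u = 0) (hrk : hf r k₀ ≠ 0) :
    ∃ k, Unit1 k ∧ hf k u = 0 ∧ hf k r = 0 ∧ hf k k₀ = 0 := by
  set r' := r + hf r k₀ • k₀ with hr'
  have h1 : hf r' k₀ = 0 := by rw [hr', hl, sl, show hf k₀ k₀ = 1 from hk, mul_one, k_add_self]
  have h2 : hf r' u = 0 := by rw [hr', hl, sl, hru, hku, mul_zero, add_zero]
  have key : ∀ s : K, s ≠ 0 → s * s ^ 2 = 1 := k_cube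
  have h3 : hf r' r' = 1 := by
    rw [hr', hl, hr, sl, sr, hr0, hf_add_right cardK, sr, symm' r k₀,
      show hf k₀ k₀ = 1 from hk]
    simp only [mul_one, zero_add]
    have key' : ∀ s : K, s ≠ 0 → 1 + s * (s ^ 2 + s ^ 2) = 1 := by decide +kernel
    rw [show hf r k₀ ^ 2 * hf r k₀ = 1 by rw [mul_comm]; exact key _ hrk]
    exact key' _ hrk
  obtain ⟨k, hk', hkb⟩ := exists_perp_of_orthonormal (b := ![u, k₀, r']) (by omega)
    (orth_three hu hk h3 (z_symm hku) (z_symm h2) (z_symm h1))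
  have e1 : hf k k₀ = 0 := hkb 1
  have e2 : hf k r' = 0 := hkb 2
  rw [hr', hf_add_right cardK, sr, e1, mul_zero, add_zero] at e2
  exact ⟨k, hk', hkb 0, e2, e1⟩

end Cfsg.Agent.FischerPolar
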