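/-
Embedded unitary frames, and the twin property of lines.

Main definitions: `Emb D m ψ`, `Pat D ψ e v` (the commuting pattern of `e` is the perpendicular of `v`).
Main results: `Polar.twin_line`, `Pat.conj`, `Pat.unique`.
-/
import Cfsg.Agent.Lib.FischerPolar.Axioms
import Cfsg.Agent.Lib.FischerPolar.Model
import Cfsg.Agent.Lib.ThreeTrans.Local

set_option autoImplicit false

namespace Cfsg.Agent.FischerPolar

open Cfsg Cfsg.Agent.ThreeTrans Cfsg.Agent.ThreeTransRank Cfsg.Agent.ThreeTransSU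

variable {G : Type*} [Group G] {D : Set G}

/-! ### Twins -/

theorem conj_eq_of_commute {g x : G} (h : Commute g x) : g * x * g⁻¹ = x := by
  rw [h.eq, mul_inv_cancel_right]

theorem cmap (g : G) {x y : G} (h : Commute x y) : Commute (g * x * g⁻¹) (g * y * g⁻¹) :=
  h.map (MulAut.conj g).toMonoidHom

theorem cmap_iff (g : G) {x y : G} : Commute (g * x * g⁻¹) (g * y * g⁻¹) ↔ Commute x y :=
  ⟨fun h => by simpa [mul_assoc] using cmap g⁻¹ h, cmap g⟩

theorem line_conj_mem (hconj : ∀ g : G, ∀ d ∈ D, g * d * g⁻¹ ∈ D) (g : G) {a b v : G}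
    (hv : v ∈ line D a b) : g * v * g⁻¹ ∈ line D (g * a * g⁻¹) (g * b * g⁻¹) := by
  refine ⟨hconj g v hv.1, fun e he h1 h2 => ?_⟩
  have e1 : e = g * (g⁻¹ * e * g⁻¹⁻¹) * g⁻¹ := by group
  rw [e1] at h1 h2 ⊢
  exact cmap g (hv.2 _ (hconj g⁻¹ e he) ((cmap_iff g).1 h1) ((cmap_iff g).1 h2))

theorem Polar.twin_line [Finite G] {s : ℕ} (P : Polar D s) {r d₀ d f : G} (hr : r ∈ D) (hd₀ : d₀ ∈ D)
    (hne₀ : d₀ ≠ r) (hc₀ : Commute d₀ r) (hd : d ∈ line D d₀ r) (hdr : d ≠ r) (hf : f ∈ D)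
    (hfr : Commute f r) (hfne : f ≠ r) :
    d * d₀ * f * (d * d₀)⁻¹ ∈ line D f r := by
  have hdc := line_comm hd₀ hr hc₀ hd
  have hadj : ∀ {y : G}, y ∈ D → y ≠ r → Commute y r → y ∈ adj D r := fun hy hne hc =>
    ⟨hy, hne, hc.symm⟩
  have md := hadj hd.1 hdr hdc.2.symm
  have md₀ := hadj hd₀ hne₀ hc₀
  have mf := hadj hf hfne hfr
  have hcls := loc_class P.cls (centralCores_of_trivialRadical P.rad) hr ⟨f, mf⟩
  have hback : ∀ e ∈ D, Commute e r → Commute e d → Commute e d₀ := by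
    intro e he h1 h2
    have h0 : d₀ ∈ line D d r := by
      rw [P.line_eq hd₀ hr hne₀ hc₀ hd (right_mem hr) hdr]
      exact left_mem hd₀
    exact h0.2 e he h2 h1
  let ld : Loc D r := ⟨d, Subgroup.subset_closure md⟩
  let ld₀ : Loc D r := ⟨d₀, Subgroup.subset_closure md₀⟩
  let lf : Loc D r := ⟨f, Subgroup.subset_closure mf⟩
  have hV : VRel (locSet D r) ld ld₀ := fun z hz => by
    rw [commute_coe_iff, commute_coe_iff]
    exact ⟨fun h => (hd.2 z hz.1 h.symm hz.2.2.symm).symm,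
      fun h => (hback z hz.1 hz.2.2.symm h.symm).symm⟩
  have hg := group_of_class hcls
  have hQ := mul_mem_pCore_two_of_vRel hg.1 hg.2.1 (a := ld) (c := ld₀) md md₀ hV
  set g := ld * ld₀ with hgdef
  have hk : g * lf * g⁻¹ ∈ locSet D r := hg.2.1 g lf mf
  have hN := Cores.pCore_normal 2 (Loc D r)
  have hmem : lf⁻¹ * (g * lf * g⁻¹) ∈ pCore 2 (Loc D r) := by
    have := mul_mem (hN.conj_mem g hQ lf⁻¹) (inv_mem hQ)
    simpa [mul_assoc] using this
  have hV2 := vRel_of_mem_pCore_two hg.1 (d := lf) (v := g * lf * g⁻¹) mf hk hmem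
  refine ⟨P.conj _ f hf, fun e he h1 h2 => ?_⟩
  rcases eq_or_ne e r with rfl | hne
  · exact hk.2.2
  · have h3 := (hV2 ⟨e, Subgroup.subset_closure (hadj he hne h2)⟩ (hadj he hne h2)).2
      (commute_coe_iff.2 h1.symm)
    exact (commute_coe_iff.1 h3).symm

/-! ### Frames -/

/-- An embedded unitary frame. -/
structure Emb (D : Set G) (m : ℕ) (ψ : (Fin m → K) → G) : Prop where
  four : 4 ≤ m
  mem : ∀ {v}, Iso v → ψ v ∈ D
  smul : ∀ {v} {c : K}, Iso v → c ≠ 0 → ψ (c • v) = ψ v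
  comm : ∀ {u v}, Iso u → Iso v → hf v u = 0 → Commute (ψ u) (ψ v)
  ncomm : ∀ {u v}, Iso u → Iso v → hf v u ≠ 0 → ¬ Commute (ψ u) (ψ v)
  refl' : ∀ {u v}, Iso u → Iso v → hf v u ≠ 0 → ψ u * ψ v * ψ u = ψ (rfl2 u v)
  line : ∀ {u w}, OrthPair u w → ∀ c : K, ψ (u + c • w) ∈ line D (ψ u) (ψ w)

/-- The commuting pattern of `e` on the frame is the perpendicular of `v`. -/
def Pat {m : ℕ} (ψ : (Fin m → K) → G) (e : G) (v : Fin m → K) : Prop :=
  ∀ b, Iso b → (Commute e (ψ b) ↔ hf b v = 0)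

variable {m : ℕ} {ψ : (Fin m → K) → G}

namespace Emb

variable (hD : IsThreeTranspositionSet D) (E : Emb D m ψ)
include hD E

theorem comm_iff {u v : Fin m → K} (hu : Iso u) (hv : Iso v) :
    Commute (ψ u) (ψ v) ↔ hf v u = 0 :=
  ⟨fun h => by by_contra hn; exact E.ncomm hu hv hn h, E.comm hu hv⟩

theorem conj {u v : Fin m → K} (hu : Iso u) (hv : Iso v) : ψ u * ψ v * ψ u = ψ (rfl2 u v) := by
  by_cases h : hf v u = 0
  · rw [rfl2_of_orth h, (E.comm hu hv h).eq, mul_assoc, mul_self hD (E.mem hu), mul_one]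
  · exact E.refl' hu hv h

theorem inv {u : Fin m → K} (hu : Iso u) : (ψ u)⁻¹ = ψ u := inv_eq hD (E.mem hu)

theorem sq {u : Fin m → K} (hu : Iso u) : ψ u * ψ u = 1 := mul_self hD (E.mem hu)

theorem pat_self {u : Fin m → K} (hu : Iso u) : Pat ψ (ψ u) u := fun b hb =>
  E.comm_iff hD hu hb

end Emb

namespace Pat

variable {e : G} {v : Fin m → K}

theorem conj (hD : IsThreeTranspositionSet D) (E : Emb D m ψ) (h : Pat ψ e v) {d : Fin m → K}
    (hd : Iso d) : Pat ψ (ψ d * e * ψ d) (rfl2 d v) := by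
  intro b hb
  have h1 := h (rfl2 d b) (rfl2_iso hd.2 hb)
  rw [hf_rfl2_left hd.2, ← E.conj hD hd hb] at h1
  rw [← h1, ← cmap_iff (ψ d) (x := ψ d * e * ψ d), E.inv hD hd]
  simp only [← mul_assoc, E.sq hD hd, one_mul]
  rw [mul_assoc e, E.sq hD hd, mul_one]

theorem smul (h : Pat ψ e v) {c : K} (hc : c ≠ 0) : Pat ψ e (c • v) := fun b hb => by
  rw [h b hb, sr, mul_eq_zero, or_iff_right (pow_ne_zero 2 hc)]

theorem unique (h4 : 4 ≤ m) (h : Pat ψ e v) {v' : Fin m → K} (h' : Pat ψ e v') :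
    ∃ c : K, v' = c • v :=
  eq_smul_of_iso_perp h4 fun b hb hbv => (h' b hb).1 ((h b hb).2 hbv)

theorem ne {e' : G} (h4 : 4 ≤ m) (h : Pat ψ e v) {v' : Fin m → K} (h' : Pat ψ e' v')
    (hne : ∀ c : K, v' ≠ c • v) : e ≠ e' := fun he => by
  subst he
  obtain ⟨c, hc⟩ := h.unique h4 h'
  exact hne c hc

end Pat

/-- Two points of a line with equal pattern coincide, if the pattern is not that of an end. -/
theorem Emb.pat_line_unique [Finite G] {s : ℕ} (P : Polar D s) (E : Emb D m ψ) {A X Y : G}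
    {r μ : Fin m → K} (hA : A ∈ D) (hr : Iso r) (hne : A ≠ ψ r) (hAr : Commute A (ψ r))
    (hX : X ∈ FischerPolar.line D A (ψ r)) (hY : Y ∈ FischerPolar.line D A (ψ r))
    (pX : Pat ψ X μ) (pY : Pat ψ Y μ) (hμ : ∀ c : K, r ≠ c • μ) : X = Y := by
  by_contra hXY
  obtain ⟨b, hb, hbμ, hbr⟩ := exists_iso_sep E.four hμ
  have h := P.two hA (E.mem hr) hne hAr hX hY hXY (E.mem hb) ((pX b hb).2 hbμ).symm
    ((pY b hb).2 hbμ).symm (right_mem (E.mem hr))
  exact hbr (z_symm ((E.comm_iff P.set hb hr).1 h))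

end Cfsg.Agent.FischerPolar
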