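/-
Extension of a frame by a member whose pattern is the perpendicular of a vector of norm one.

Setting: `Step D m ψ f ν`.  `Sv μ` is the new point with last coordinate one over the unit vector `μ`.
Main results: `Step.pat_Sv`, `Step.equiv`, `Step.exists_extension`.
-/
import Cfsg.Agent.Lib.FischerPolar.Emb
import Cfsg.Agent.Lib.ThreeTransSU.Class

set_option autoImplicit false

namespace Cfsg.Agent.FischerPolar

open Cfsg Cfsg.Agent.ThreeTrans Cfsg.Agent.ThreeTransRank Cfsg.Agent.ThreeTransSU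

variable {G : Type*} [Group G] {D : Set G} {m : ℕ} {ψ : (Fin m → K) → G} {f : G} {ν : Fin m → K}

/-- A frame and a member with pattern `ν` of norm one. -/
structure Step (D : Set G) (m : ℕ) (ψ : (Fin m → K) → G) (f : G) (ν : Fin m → K) : Prop where
  polar : Polar D 5
  emb : Emb D m ψ
  mem : f ∈ D
  unit : Unit1 ν
  pat : Pat ψ f ν

/-- The point over a unit vector perpendicular to `ν`. -/
def hpt (ψ : (Fin m → K) → G) (f : G) (ν k : Fin m → K) : G := ψ (ν + k) * f * ψ (ν + k)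

/-- The point over `c ν + r`. -/
def Ppt (ψ : (Fin m → K) → G) (f : G) (ν : Fin m → K) (c : K) (r k : Fin m → K) : G :=
  ψ (c • ν + k + r) * hpt ψ f ν k * ψ (c • ν + k + r)

/-- The admissible data for `Ppt`. -/
structure Dat (ν : Fin m → K) (c : K) (r k : Fin m → K) : Prop where
  hc : c ≠ 0
  hrr : hf r r = 0
  hrν : hf r ν = 0
  hkk : Unit1 k
  hkν : hf k ν = 0
  hkr : hf k r = 0

theorem Dat.zero {c : K} {k : Fin m → K} (hc : c ≠ 0) (hk : Unit1 k) (hkν : hf k ν = 0) :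
    Dat ν c 0 k := ⟨hc, zl 0, zl ν, hk, hkν, zr k⟩

theorem Dat.base {c : K} {r k : Fin m → K} (h : Dat ν c r k) : Dat ν c 0 k :=
  Dat.zero h.hc h.hkk h.hkν

namespace Step

variable (S : Step D m ψ f ν)
include S

theorem set : IsThreeTranspositionSet D := S.polar.cls.1

theorem four : 4 ≤ m := S.emb.four

theorem conj_d_mem {x : G} (hx : x ∈ D) {d : Fin m → K} (hd : Iso d) : ψ d * x * ψ d ∈ D :=
  conj_mem S.set S.polar.conj (S.emb.mem hd) hx

theorem fix_of_commute {x : G} {d : Fin m → K} (hd : Iso d) (h : Commute x (ψ d)) :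
    ψ d * x * ψ d = x := by
  rw [h.symm.eq, mul_assoc, S.emb.sq S.set hd, mul_one]

theorem conj_conj {x : G} {d : Fin m → K} (hd : Iso d) : ψ d * (ψ d * x * ψ d) * ψ d = x := by
  simp only [← mul_assoc, S.emb.sq S.set hd, one_mul]
  rw [mul_assoc, S.emb.sq S.set hd, mul_one]

theorem conj_prod {x : G} {d b : Fin m → K} (hd : Iso d) (hb : Iso b) :
    ψ d * (ψ b * x * ψ b) * ψ d = ψ (rfl2 d b) * (ψ d * x * ψ d) * ψ (rfl2 d b) := by
  rw [← S.emb.conj S.set hd hb]
  simp only [mul_assoc, mul_self_cancel S.set (S.emb.mem hd)]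

omit S in
theorem hf_nuk (hν : Unit1 ν) {k : Fin m → K} (hkν : hf k ν = 0) : hf ν (ν + k) = 1 := by
  rw [hr, show hf ν ν = 1 from hν, z_symm hkν, add_zero]

theorem iso_nuk {k : Fin m → K} (hk : Unit1 k) (hkν : hf k ν = 0) : Iso (ν + k) := by
  have h1 := hf_nuk S.unit hkν
  refine ⟨fun e => ?_, ?_⟩
  · rw [e, zr] at h1; exact zero_ne_one h1
  · rw [hl, h1, hr, hkν, show hf k k = 1 from hk, zero_add, k_add_self]

theorem rfl2_nuk {k : Fin m → K} (hkν : hf k ν = 0) : rfl2 (ν + k) ν = k := by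
  rw [rfl2, hf_nuk S.unit hkν, one_smul, ← add_assoc, v_add_self, zero_add]

theorem hpt_mem {k : Fin m → K} (hk : Unit1 k) (hkν : hf k ν = 0) : hpt ψ f ν k ∈ D :=
  S.conj_d_mem S.mem (S.iso_nuk hk hkν)

theorem pat_h {k : Fin m → K} (hk : Unit1 k) (hkν : hf k ν = 0) : Pat ψ (hpt ψ f ν k) k := by
  have := S.pat.conj S.set S.emb (S.iso_nuk hk hkν)
  rwa [S.rfl2_nuk hkν] at this

theorem dv_dot {c : K} {r k : Fin m → K} (h : Dat ν c r k) :
    hf k (c • ν + k + r) = 1 ∧ hf (c • ν) (c • ν + k + r) = 1 := by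
  have hν : hf ν ν = 1 := S.unit
  constructor
  · rw [hr, hr, sr, h.hkν, h.hkr, show hf k k = 1 from h.hkk, mul_zero, zero_add, add_zero]
  · rw [hr, hr, sl, sl, sl, sr, hν, z_symm h.hkν, z_symm h.hrν, mul_one, k_cube c h.hc, mul_zero,
      add_zero, add_zero]

theorem iso_dv {c : K} {r k : Fin m → K} (h : Dat ν c r k) : Iso (c • ν + k + r) := by
  obtain ⟨h1, h2⟩ := S.dv_dot h
  refine ⟨fun e => ?_, ?_⟩
  · rw [e, zr] at h1; exact zero_ne_one h1
  · have h3 : hf r (c • ν + k + r) = 0 := by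
      rw [hr, hr, sr, h.hrν, z_symm h.hkr, h.hrr, mul_zero, add_zero, add_zero]
    rw [hl, hl, h1, h2, h3, add_zero, k_add_self]

theorem rfl2_dv {c : K} {r k : Fin m → K} (h : Dat ν c r k) :
    rfl2 (c • ν + k + r) k = c • ν + r := by
  rw [rfl2, (S.dv_dot h).1, one_smul, show c • ν + k + r = k + (c • ν + r) by abel, ← add_assoc,
    v_add_self, zero_add]

theorem Ppt_mem {c : K} {r k : Fin m → K} (h : Dat ν c r k) : Ppt ψ f ν c r k ∈ D :=
  S.conj_d_mem (S.hpt_mem h.hkk h.hkν) (S.iso_dv h)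

theorem pat_P {c : K} {r k : Fin m → K} (h : Dat ν c r k) :
    Pat ψ (Ppt ψ f ν c r k) (c • ν + r) := by
  have := (S.pat_h h.hkk h.hkν).conj S.set S.emb (S.iso_dv h)
  rwa [S.rfl2_dv h] at this

theorem pat_F {c : K} {k : Fin m → K} (h : Dat ν c 0 k) : Pat ψ (Ppt ψ f ν c 0 k) (c • ν) := by
  simpa using S.pat_P h

theorem Ppt_zero (c : K) (k : Fin m → K) :
    Ppt ψ f ν c 0 k = ψ (c • ν + k) * hpt ψ f ν k * ψ (c • ν + k) := by
  rw [Ppt, add_zero]

theorem P_line [Finite G] {c : K} {r k : Fin m → K} (h : Dat ν c r k) (hr0 : r ≠ 0) :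
    Ppt ψ f ν c r k ∈ FischerPolar.line D (Ppt ψ f ν c 0 k) (ψ r) ∧
      Ppt ψ f ν c 0 k ≠ ψ r ∧ Commute (Ppt ψ f ν c 0 k) (ψ r) := by
  have hr : Iso r := ⟨hr0, h.hrr⟩
  have hD := S.set
  have hb := h.base
  set d₀ := c • ν + k with hd₀
  have i₀ : Iso d₀ := by simpa using S.iso_dv hb
  have id' : Iso (d₀ + r) := S.iso_dv h
  have h0r : hf d₀ r = 0 := by
    rw [hd₀, hl, sl, z_symm h.hrν, h.hkr, mul_zero, add_zero]
  have hop : OrthPair d₀ r := by
    refine ⟨i₀, hr, h0r, fun a ha => ?_⟩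
    have h1 := h.hrν
    rw [ha, sl, hd₀, hl, sl, show hf ν ν = 1 from S.unit, h.hkν, mul_one, add_zero] at h1
    rcases mul_eq_zero.1 h1 with e | e
    · exact hr0 (by rw [ha, e, zero_smul])
    · exact h.hc e
  have hd : ψ (d₀ + r) ∈ FischerPolar.line D (ψ d₀) (ψ r) := by
    simpa using S.emb.line hop 1
  have hne₀ : ψ d₀ ≠ ψ r := (S.emb.pat_self hD i₀).ne S.four (S.emb.pat_self hD hr)
    fun a => hop.2.2.2 a
  have hdr : ψ (d₀ + r) ≠ ψ r := by
    refine ((S.emb.pat_self hD hr).ne S.four (S.emb.pat_self hD id') fun a ha => ?_).symm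
    have h1 := congrArg (fun y => hf y ν) ha
    simp only [hd₀, hl, sl, show hf ν ν = 1 from S.unit, h.hkν, h.hrν, mul_one, mul_zero,
      add_zero] at h1
    exact h.hc h1
  have hF := S.pat_F hb
  have hFr : Commute (Ppt ψ f ν c 0 k) (ψ r) :=
    (hF r hr).2 (by rw [sr, h.hrν, mul_zero])
  have hFne : Ppt ψ f ν c 0 k ≠ ψ r := hF.ne S.four (S.emb.pat_self hD hr) fun a ha => by
    have h1 := h.hrν
    rw [ha, sl, sl, show hf ν ν = 1 from S.unit, mul_one] at h1
    rcases mul_eq_zero.1 h1 with e | e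
    · exact hr0 (by rw [ha, e, zero_smul])
    · exact h.hc e
  refine ⟨?_, hFne, hFr⟩
  have := S.polar.twin_line (S.emb.mem hr) (S.emb.mem i₀) hne₀
    (S.emb.comm i₀ hr (z_symm h0r)) hd hdr (S.Ppt_mem hb) hFr hFne
  convert this using 1
  rw [S.Ppt_zero, ← hd₀, Ppt, mul_inv_rev, S.emb.inv hD i₀, S.emb.inv hD id']
  simp only [mul_assoc, mul_self_cancel hD (S.emb.mem i₀), ← hd₀]

theorem F_orth {c : K} {k k' : Fin m → K} (hc : c ≠ 0) (hk : Unit1 k) (hkν : hf k ν = 0)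
    (hk' : Unit1 k') (hk'ν : hf k' ν = 0) (h : hf k k' = 0) :
    Ppt ψ f ν c 0 k = Ppt ψ f ν c 0 k' := by
  set e := k + k' with he
  have h1 : hf k e = 1 := by rw [he, hr, h, show hf k k = 1 from hk, add_zero]
  have ie : Iso e := by
    refine ⟨fun h0 => ?_, ?_⟩
    · rw [h0, zr] at h1; exact zero_ne_one h1
    · rw [he, hl, hr, hr, h, z_symm h, show hf k k = 1 from hk, show hf k' k' = 1 from hk',
        add_zero, zero_add, k_add_self]
  have heν : hf e ν = 0 := by rw [he, hl, hkν, hk'ν, add_zero]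
  have tν : rfl2 e ν = ν := rfl2_of_orth (z_symm heν)
  have tk : rfl2 e k = k' := by
    rw [rfl2, h1, one_smul, he, ← add_assoc, v_add_self, zero_add]
  have hd := Dat.zero (ν := ν) hc hk hkν
  have i₀ : Iso (c • ν + k) := by simpa using S.iso_dv hd
  have key : ψ e * Ppt ψ f ν c 0 k * ψ e = Ppt ψ f ν c 0 k' := by
    rw [S.Ppt_zero, S.Ppt_zero, S.conj_prod ie i₀, hpt, S.conj_prod ie (S.iso_nuk hk hkν),
      S.fix_of_commute ie ((S.pat e ie).2 heν), rfl2_add, rfl2_add, rfl2_smul, tν, tk]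
    rfl
  rwa [S.fix_of_commute ie ((S.pat_F hd e ie).2 (by rw [sr, heν, mul_zero]))] at key

theorem F_one [Finite G] {c : K} {k r : Fin m → K} (h : Dat ν c r k) (hr0 : r ≠ 0) :
    Ppt ψ f ν c 0 k = Ppt ψ f ν c 0 (k + r) := by
  have hD := S.set
  have ir : Iso r := ⟨hr0, h.hrr⟩
  have hk' : Unit1 (k + r) := by
    rw [Unit1, hl, hr, hr, show hf k k = 1 from h.hkk, h.hkr, z_symm h.hkr, h.hrr, add_zero,
      add_zero, add_zero]
  have hk'ν : hf (k + r) ν = 0 := by rw [hl, h.hkν, h.hrν, add_zero]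
  set b := ν + k with hb
  set b' := ν + (k + r) with hb'
  have ib := S.iso_nuk h.hkk h.hkν
  have ib' := S.iso_nuk hk' hk'ν
  set d₀ := c • ν + k with hd₀
  set d₀' := c • ν + (k + r) with hd₀'
  have i₀ : Iso d₀ := by simpa using S.iso_dv h.base
  have i₀' : Iso d₀' := by simpa [hd₀', add_assoc] using S.iso_dv h
  have hbr : hf b r = 0 := by rw [hb, hl, z_symm h.hrν, h.hkr, add_zero]
  have hd₀r : hf d₀ r = 0 := by rw [hd₀, hl, sl, z_symm h.hrν, h.hkr, mul_zero, add_zero]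
  have hopb : OrthPair b r := by
    refine ⟨ib, ir, hbr, fun a ha => ?_⟩
    have h1 := h.hrν
    rw [ha, sl, hb, hl, show hf ν ν = 1 from S.unit, h.hkν, add_zero, mul_one] at h1
    exact hr0 (by rw [ha, h1, zero_smul])
  have hopd : OrthPair d₀' r := by
    refine ⟨i₀', ir, ?_, fun a ha => ?_⟩
    · rw [hd₀', hl, sl, hl, z_symm h.hrν, h.hkr, h.hrr, mul_zero, add_zero, add_zero]
    · have h1 := h.hrν
      rw [ha, sl, hd₀', hl, sl, show hf ν ν = 1 from S.unit, hk'ν, mul_one, add_zero] at h1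
      rcases mul_eq_zero.1 h1 with e | e
      · exact hr0 (by rw [ha, e, zero_smul])
      · exact h.hc e
  have ne_r : ∀ {u}, Iso u → hf u ν ≠ 0 → ψ u ≠ ψ r := fun {u} hu hne =>
    ((S.emb.pat_self hD ir).ne S.four (S.emb.pat_self hD hu) fun a ha => hne (by
      rw [ha, sl, h.hrν, mul_zero])).symm
  set hh := hpt ψ f ν k with hhh
  set hh' := hpt ψ f ν (k + r) with hhh'
  have ph := S.pat_h h.hkk h.hkν
  have ph' := S.pat_h hk' hk'ν
  have hne : ∀ c : K, r ≠ c • k := fun a ha => by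
    have h1 := h.hrr
    rw [ha, sl, sr, show hf k k = 1 from h.hkk, mul_one] at h1
    by_cases ha0 : a = 0
    · exact hr0 (by rw [ha, ha0, zero_smul])
    · rw [k_cube a ha0] at h1; exact one_ne_zero h1
  have hhr : Commute hh (ψ r) := (ph r ir).2 (z_symm h.hkr)
  have hhne : hh ≠ ψ r := ph.ne S.four (S.emb.pat_self hD ir) fun a => hne a
  have step1 : hh' ∈ FischerPolar.line D hh (ψ r) := by
    have hd : ψ b' ∈ FischerPolar.line D (ψ b) (ψ r) := by
      simpa [hb', hb, add_assoc] using S.emb.line hopb 1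
    have := S.polar.twin_line (S.emb.mem ir) (S.emb.mem ib)
      (ne_r ib (by rw [hl, show hf ν ν = 1 from S.unit, h.hkν, add_zero]; exact one_ne_zero))
      (S.emb.comm ib ir (z_symm hbr)) hd
      (ne_r ib' (by rw [hl, show hf ν ν = 1 from S.unit, hk'ν, add_zero]; exact one_ne_zero))
      (S.hpt_mem h.hkk h.hkν) hhr hhne
    convert this using 1
    rw [mul_inv_rev, S.emb.inv hD ib, S.emb.inv hD ib']
    simp only [hhh', hpt, ← hb, ← hb', mul_assoc]
    simp only [mul_self_cancel hD (S.emb.mem (show Iso b from ib))]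
  have hh'r : Commute hh' (ψ r) := (ph' r ir).2 (by rw [hr, z_symm h.hkr, h.hrr, add_zero])
  have hh'ne : hh' ≠ ψ r := ph'.ne S.four (S.emb.pat_self hD ir) fun a ha => by
    have h1 := h.hrr
    rw [ha, sl, sr, show hf (k + r) (k + r) = 1 from hk', mul_one] at h1
    by_cases ha0 : a = 0
    · exact hr0 (by rw [ha, ha0, zero_smul])
    · rw [k_cube a ha0] at h1; exact one_ne_zero h1
  have hline : FischerPolar.line D hh' (ψ r) = FischerPolar.line D hh (ψ r) :=
    S.polar.line_eq (S.hpt_mem h.hkk h.hkν) (S.emb.mem ir) hhne hhr step1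
      (right_mem (S.emb.mem ir)) hh'ne
  set M := ψ d₀ * (ψ d₀' * hh' * ψ d₀') * ψ d₀ with hM
  have step2 : M ∈ FischerPolar.line D hh (ψ r) := by
    rw [← hline]
    have hd : ψ d₀ ∈ FischerPolar.line D (ψ d₀') (ψ r) := by
      have e : d₀' + (1 : K) • r = d₀ := by
        rw [one_smul, hd₀', ← add_assoc, v_cancel]
      have h' := S.emb.line hopd 1
      rwa [e] at h'
    have := S.polar.twin_line (S.emb.mem ir) (S.emb.mem i₀')
      (ne_r i₀' (by rw [hl, sl, show hf ν ν = 1 from S.unit, hk'ν, add_zero, mul_one]; exact h.hc))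
      (S.emb.comm i₀' ir (z_symm hopd.2.2.1)) hd
      (ne_r i₀ (by rw [hl, sl, show hf ν ν = 1 from S.unit, h.hkν, add_zero, mul_one]; exact h.hc))
      (S.hpt_mem hk' hk'ν) hh'r hh'ne
    convert this using 1
    rw [hM, mul_inv_rev, S.emb.inv hD i₀, S.emb.inv hD i₀']
    simp only [mul_assoc]
    rfl
  have pM : Pat ψ M k := by
    have h1 := (ph'.conj hD S.emb i₀').conj hD S.emb i₀
    have e1 : rfl2 d₀' (k + r) = c • ν := by
      have : hf (k + r) d₀' = 1 := by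
        rw [hd₀', hr, sr, hk'ν, mul_zero, zero_add]; exact hk'
      rw [rfl2, this, one_smul, hd₀',
        show k + r + (c • ν + (k + r)) = c • ν + ((k + r) + (k + r)) by abel, v_add_self, add_zero]
    have e2 : rfl2 d₀ (c • ν) = k := by
      have : hf (c • ν) d₀ = 1 := by simpa using (S.dv_dot h.base).2
      rw [rfl2, this, one_smul, hd₀, ← add_assoc, v_add_self, zero_add]
    rwa [e1, e2] at h1
  have hMh : M = hh :=
    S.emb.pat_line_unique S.polar (S.hpt_mem h.hkk h.hkν) ir hhne hhr step2 (left_mem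
      (S.hpt_mem h.hkk h.hkν)) pM ph hne
  rw [S.Ppt_zero, S.Ppt_zero, ← hd₀, ← hd₀', ← hhh, ← hMh, hM, S.conj_conj i₀]

theorem F_eq [Finite G] {c : K} {k k' : Fin m → K} (hc : c ≠ 0) (hk : Unit1 k) (hkν : hf k ν = 0)
    (hk' : Unit1 k') (hk'ν : hf k' ν = 0) : Ppt ψ f ν c 0 k = Ppt ψ f ν c 0 k' := by
  have one : ∀ {a b : Fin m → K}, Unit1 a → hf a ν = 0 → Unit1 b → hf b ν = 0 → hf a b = 1 →
      Ppt ψ f ν c 0 a = Ppt ψ f ν c 0 b := by
    intro a b ha haν hb hbν hab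
    set r := a + b with hr'
    have eb : b = a + r := by rw [hr', ← add_assoc, v_add_self, zero_add]
    by_cases hr0 : r = 0
    · rw [eb, hr0, add_zero]
    rw [eb]
    refine S.F_one ⟨hc, ?_, ?_, ha, haν, ?_⟩ hr0
    · rw [hr', hl, hr, hr, show hf a a = 1 from ha, show hf b b = 1 from hb, hab, one_symm hab]
      simp [k_add_self]
    · rw [hr', hl, haν, hbν, add_zero]
    · rw [hr', hr, hab, show hf a a = 1 from ha, k_add_self]
  by_cases h0 : hf k k' = 0
  · exact S.F_orth hc hk hkν hk' hk'ν h0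
  set l := hf k k' ^ 2 with hl'
  have hl0 : l ≠ 0 := pow_ne_zero 2 h0
  have hlk : Unit1 (l • k) := unit_smul hk hl0
  have hlkν : hf (l • k) ν = 0 := by rw [sl, hkν, mul_zero]
  obtain ⟨e, he, heν, hek⟩ := exists_unit_perp S.four S.unit k
  rw [S.F_orth hc hk hkν he heν (z_symm hek),
    S.F_orth hc he heν hlk hlkν (by rw [sr, hek, mul_zero])]
  exact one hlk hlkν hk' hk'ν (by rw [sl, hl', mul_comm, k_cube _ h0])

theorem P_eq [Finite G] {c : K} {r k k' : Fin m → K} (h : Dat ν c r k) (h' : Dat ν c r k') :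
    Ppt ψ f ν c r k = Ppt ψ f ν c r k' := by
  by_cases hr0 : r = 0
  · subst hr0; exact S.F_eq h.hc h.hkk h.hkν h'.hkk h'.hkν
  have hF := S.F_eq h.hc h.hkk h.hkν h'.hkk h'.hkν
  obtain ⟨h1, h2, h3⟩ := S.P_line h hr0
  have h1' := (S.P_line h' hr0).1
  rw [← hF] at h1'
  refine S.emb.pat_line_unique S.polar (S.Ppt_mem h.base) ⟨hr0, h.hrr⟩ h2 h3 h1 h1' (S.pat_P h)
    (S.pat_P h') fun a ha => ?_
  have e := congrArg (fun y => hf y ν) ha
  simp only [sl, hl, show hf ν ν = 1 from S.unit, h.hrν, mul_one, add_zero] at e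
  rcases mul_eq_zero.1 e.symm with e' | e'
  · exact hr0 (by rw [ha, e', zero_smul])
  · exact h.hc e'

end Step

end Cfsg.Agent.FischerPolar
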