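/-
The extended frame.

Main results: `Step.equiv` (old transvections permute the new points as in the model),
`Step.exists_extension` : a frame with a member of anisotropic pattern extends by one dimension.
-/
import Cfsg.Agent.Lib.FischerPolar.Extend

set_option autoImplicit false

namespace Cfsg.Agent.FischerPolar

open Cfsg Cfsg.Agent.ThreeTrans Cfsg.Agent.ThreeTransRank Cfsg.Agent.ThreeTransSU Cfsg.Agent.U62Cover

variable {G : Type*} [Group G] {D : Set G} {m : ℕ} {ψ : (Fin m → K) → G} {f : G} {ν : Fin m → K}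

open Classical in
/-- A unit vector perpendicular to `ν` and `r`. -/
noncomputable def kk (ν r : Fin m → K) : Fin m → K :=
  if h : ∃ k, Unit1 k ∧ hf k ν = 0 ∧ hf k r = 0 then h.choose else 0

open Classical in
/-- The new point over a vector of norm one. -/
noncomputable def Sv (ψ : (Fin m → K) → G) (f : G) (ν μ : Fin m → K) : G :=
  if hf μ ν = 0 then hpt ψ f ν μ
  else Ppt ψ f ν (hf μ ν) (μ + hf μ ν • ν) (kk ν (μ + hf μ ν • ν))

open Classical in
/-- The extended frame. -/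
noncomputable def extPsi (ψ : (Fin m → K) → G) (f : G) (ν : Fin m → K) (X : Fin (m + 1) → K) : G :=
  if X (Fin.last m) = 0 then ψ (Fin.init X) else Sv ψ f ν ((X (Fin.last m))⁻¹ • Fin.init X)

theorem hf_init_last (X Y : Fin (m + 1) → K) :
    hf X Y = hf (Fin.init X) (Fin.init Y) + X (Fin.last m) * Y (Fin.last m) ^ 2 :=
  Fin.sum_univ_castSucc fun i => X i * Y i ^ 2

theorem move {a b : Fin m → K} (ha : Unit1 a) (hb : Unit1 b) (h : hf a b = 0) :
    Iso (a + b) ∧ rfl2 (a + b) a = b ∧ rfl2 (a + b) b = a := by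
  have h1 : hf a (a + b) = 1 := by rw [hr, h, show hf a a = 1 from ha, add_zero]
  have h2 : hf b (a + b) = 1 := by rw [hr, z_symm h, show hf b b = 1 from hb, zero_add]
  refine ⟨⟨fun e => ?_, ?_⟩, ?_, ?_⟩
  · rw [e, zr] at h1; exact zero_ne_one h1
  · rw [hl, h1, h2, k_add_self]
  · rw [rfl2, h1, one_smul, ← add_assoc, v_add_self, zero_add]
  · rw [rfl2, h2, one_smul, add_comm a b, ← add_assoc, v_add_self, zero_add]

namespace Step

variable (S : Step D m ψ f ν)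
include S

theorem unit_dec {c : K} {r : Fin m → K} (hrν : hf r ν = 0) :
    hf (c • ν + r) (c • ν + r) = c * c ^ 2 + hf r r ∧ hf (c • ν + r) ν = c := by
  have hν : hf ν ν = 1 := S.unit
  refine ⟨?_, ?_⟩
  · rw [hl, hr, hr, sl, sl, sr, sr, hν, z_symm hrν, hrν]
    simp
  · rw [hl, sl, hν, hrν, mul_one, add_zero]

theorem dat_of_unit {μ : Fin m → K} (hμ : Unit1 μ) (hc : hf μ ν ≠ 0) :
    Dat ν (hf μ ν) (μ + hf μ ν • ν) (kk ν (μ + hf μ ν • ν)) := by
  have hν : hf ν ν = 1 := S.unit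
  set r := μ + hf μ ν • ν with hr'
  have hrν : hf r ν = 0 := by rw [hr', hl, sl, hν, mul_one, k_add_self]
  obtain ⟨k, hk⟩ := exists_unit_perp S.four S.unit r
  have hk' : ∃ k, Unit1 k ∧ hf k ν = 0 ∧ hf k r = 0 := ⟨k, hk⟩
  have hspec : Unit1 (kk ν r) ∧ hf (kk ν r) ν = 0 ∧ hf (kk ν r) r = 0 := by
    rw [kk, dif_pos hk']; exact hk'.choose_spec
  refine ⟨hc, ?_, hrν, hspec.1, hspec.2.1, hspec.2.2⟩
  have h1 := (S.unit_dec (c := hf μ ν) hrν).1
  rw [show hf μ ν • ν + r = μ by rw [hr', add_comm μ, ← add_assoc, v_add_self, zero_add],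
    show hf μ μ = 1 from hμ, k_cube _ hc] at h1
  exact (add_eq_left.1 h1.symm)

theorem Sv_zero {k : Fin m → K} (hkν : hf k ν = 0) : Sv ψ f ν k = hpt ψ f ν k := by
  rw [Sv, if_pos hkν]

theorem Sv_P [Finite G] {c : K} {r k : Fin m → K} (h : Dat ν c r k) :
    Sv ψ f ν (c • ν + r) = Ppt ψ f ν c r k := by
  have h1 := (S.unit_dec (c := c) h.hrν)
  have hμ : Unit1 (c • ν + r) := by rw [Unit1, h1.1, h.hrr, add_zero, k_cube c h.hc]
  have hd := S.dat_of_unit hμ (by rw [h1.2]; exact h.hc)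
  rw [Sv, if_neg (by rw [h1.2]; exact h.hc)]
  rw [h1.2, show c • ν + r + c • ν = r by rw [add_comm, ← add_assoc, v_add_self, zero_add]] at hd ⊢
  exact S.P_eq hd h

theorem Sv_cases {μ : Fin m → K} (hμ : Unit1 μ) :
    (hf μ ν = 0 ∧ Sv ψ f ν μ = hpt ψ f ν μ) ∨
      ∃ c r k, Dat ν c r k ∧ μ = c • ν + r ∧ Sv ψ f ν μ = Ppt ψ f ν c r k := by
  by_cases hc : hf μ ν = 0
  · exact Or.inl ⟨hc, S.Sv_zero hc⟩
  · exact Or.inr ⟨_, _, _, S.dat_of_unit hμ hc,
      by rw [add_comm μ, ← add_assoc, v_add_self, zero_add], by rw [Sv, if_neg hc]⟩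

theorem Sv_mem {μ : Fin m → K} (hμ : Unit1 μ) : Sv ψ f ν μ ∈ D := by
  rcases S.Sv_cases hμ with ⟨h1, h2⟩ | ⟨c, r, k, h, -, h2⟩ <;> rw [h2]
  · exact S.hpt_mem hμ h1
  · exact S.Ppt_mem h

theorem pat_Sv {μ : Fin m → K} (hμ : Unit1 μ) : Pat ψ (Sv ψ f ν μ) μ := by
  rcases S.Sv_cases hμ with ⟨h1, h2⟩ | ⟨c, r, k, h, h3, h2⟩ <;> rw [h2]
  · exact S.pat_h hμ h1
  · rw [h3]; exact S.pat_P h

theorem Sv_self [Finite G] : Sv ψ f ν ν = f := by
  obtain ⟨k, hk, hkν, -⟩ := exists_unit_perp S.four S.unit ν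
  have hd := Dat.zero (ν := ν) (one_ne_zero (α := K)) hk hkν
  have := S.Sv_P hd
  rw [one_smul, add_zero] at this
  rw [this, S.Ppt_zero, one_smul, hpt, S.conj_conj (S.iso_nuk hk hkν)]

theorem equiv_perp [Finite G] {d μ : Fin m → K} (hd : Iso d) (hdν : hf d ν = 0) (hμ : Unit1 μ) :
    ψ d * Sv ψ f ν μ * ψ d = Sv ψ f ν (rfl2 d μ) := by
  have hf' : ψ d * f * ψ d = f := S.fix_of_commute hd ((S.pat d hd).2 hdν)
  have tν : rfl2 d ν = ν := rfl2_of_orth (z_symm hdν)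
  have keep : ∀ x, hf (rfl2 d x) ν = hf x ν := fun x => by rw [hf_rfl2_left hd.2, tν]
  have hh : ∀ k, Unit1 k → hf k ν = 0 →
      ψ d * hpt ψ f ν k * ψ d = hpt ψ f ν (rfl2 d k) := fun k hk hkν => by
    rw [hpt, S.conj_prod hd (S.iso_nuk hk hkν), hf', rfl2_add, tν]
    rfl
  rcases S.Sv_cases hμ with ⟨h1, h2⟩ | ⟨c, r, k, h, h3, h2⟩ <;> rw [h2]
  · rw [hh μ hμ h1, S.Sv_zero (by rw [keep, h1])]
  · have h' : Dat ν c (rfl2 d r) (rfl2 d k) := ⟨h.hc, by rw [hf_rfl2 hd.2, h.hrr],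
      by rw [keep, h.hrν], rfl2_unit hd.2 h.hkk, by rw [keep, h.hkν],
      by rw [hf_rfl2 hd.2, h.hkr]⟩
    rw [h3, rfl2_add, rfl2_smul, tν, S.Sv_P h', Ppt, S.conj_prod hd (S.iso_dv h),
      hh k h.hkk h.hkν, rfl2_add, rfl2_add, rfl2_smul, tν]
    rfl

theorem equiv_zero [Finite G] {d k : Fin m → K} (hd : Iso d) (hk : Unit1 k) (hkν : hf k ν = 0) :
    ψ d * hpt ψ f ν k * ψ d = Sv ψ f ν (rfl2 d k) := by
  by_cases h0 : hf k d = 0
  · rw [rfl2_of_orth h0, S.Sv_zero hkν,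
      S.fix_of_commute hd ((S.pat_h hk hkν d hd).2 (z_symm h0))]
  by_cases hdν : hf d ν = 0
  · rw [← S.Sv_zero hkν]; exact S.equiv_perp hd hdν hk
  set s := hf ν d with hs'
  have hs : s ≠ 0 := fun e => hdν (z_symm e)
  set d' := s • d with hd'
  have hid : Iso d' := iso_smul hd hs
  rw [← S.emb.smul hd hs, ← rfl2_centre hs k, ← hd']
  have h1 : hf ν d' = 1 := by rw [hd', sr, ← hs', mul_comm, k_cube s hs]
  set c' := hf k d' with hc'
  have hc0 : c' ≠ 0 := by rw [hc', hd', sr]; exact mul_ne_zero (pow_ne_zero 2 hs) h0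
  set r := k + c' • (d' + ν) with hr'
  have hrν : hf r ν = 0 := by
    rw [hr', hl, sl, hl, hkν, one_symm h1, show hf ν ν = 1 from S.unit, k_add_self, mul_zero,
      add_zero]
  have e1 : c' • ν + r = rfl2 d' k := by
    rw [hr', rfl2, ← hc', smul_add,
      show c' • ν + (k + (c' • d' + c' • ν)) = k + c' • d' + (c' • ν + c' • ν) by abel, v_add_self,
      add_zero]
  have hD' : Dat ν c' r k := by
    refine ⟨hc0, ?_, hrν, hk, hkν, ?_⟩
    · have h2 := (S.unit_dec (c := c') hrν).1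
      rw [e1, show hf (rfl2 d' k) (rfl2 d' k) = 1 from rfl2_unit hid.2 hk, k_cube c' hc0] at h2
      exact add_eq_left.1 h2.symm
    · rw [hr', hr, sr, hr, hkν, add_zero, ← hc', show hf k k = 1 from hk, mul_comm,
        k_cube c' hc0, k_add_self]
  rw [← e1, S.Sv_P hD', Ppt, show c' • ν + k + r = c' • d' by
    rw [hr', smul_add, show c' • ν + k + (k + (c' • d' + c' • ν)) =
      c' • d' + ((c' • ν + c' • ν) + (k + k)) by abel, v_add_self, v_add_self, add_zero, add_zero],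
    S.emb.smul hid hc0]

/-- The old transvections permute the new points as in the model. -/
theorem equiv [Finite G] {d μ : Fin m → K} (hd : Iso d) (hμ : Unit1 μ) :
    ψ d * Sv ψ f ν μ * ψ d = Sv ψ f ν (rfl2 d μ) := by
  rcases S.Sv_cases hμ with ⟨h1, h2⟩ | ⟨c, r, k, h, h3, h2⟩
  · rw [h2]; exact S.equiv_zero hd hμ h1
  by_cases hdν : hf d ν = 0
  · exact S.equiv_perp hd hdν hμ
  set s := hf ν d with hs'
  have hs : s ≠ 0 := fun e => hdν (z_symm e)
  set d' := s • d with hd'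
  have hid : Iso d' := iso_smul hd hs
  rw [← S.emb.smul hd hs, ← rfl2_centre hs μ, ← hd']
  have h1 : hf ν d' = 1 := by rw [hd', sr, ← hs', mul_comm, k_cube s hs]
  have hc' : hf (rfl2 d' μ) ν = hf r d' := by
    rw [hf_rfl2_left hid.2, rfl2, hr, sr, h1, one_pow, one_mul, h3, hl, sl,
      show hf ν ν = 1 from S.unit, h.hrν, hl, sl, h1, mul_one, add_zero, ← add_assoc, k_add_self,
      zero_add]
  by_cases hz : hf r d' = 0
  · -- the target is perpendicular
    have hu := rfl2_unit hid.2 hμ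
    have hzero := hc'.trans hz
    have := S.equiv_zero hid hu hzero
    rw [rfl2_rfl2 hid.2] at this
    rw [S.Sv_zero hzero, ← this, S.conj_conj hid]
  set k₀ := d' + ν with hk₀
  have hk₀ν : hf k₀ ν = 0 := by rw [hk₀, hl, one_symm h1, show hf ν ν = 1 from S.unit, k_add_self]
  have hk₀u : Unit1 k₀ := by
    rw [Unit1, hk₀, hl, hr, hr, hid.2, one_symm h1, h1, show hf ν ν = 1 from S.unit, zero_add,
      k_add_self, add_zero]
  have hrk₀ : hf r k₀ ≠ 0 := by rw [hk₀, hr, h.hrν, add_zero]; exact hz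
  obtain ⟨k', hk'u, hk'ν, hk'r, hk'k₀⟩ :=
    exists_unit_perp_three S.four S.unit hk₀u h.hrr h.hrν hk₀ν hrk₀
  have h' : Dat ν c r k' := ⟨h.hc, h.hrr, h.hrν, hk'u, hk'ν, hk'r⟩
  have hk'd : hf k' d' = 0 := by
    rwa [hk₀, hr, hk'ν, add_zero] at hk'k₀
  have ie := S.iso_dv h'
  rw [h2, S.P_eq h h', Ppt, S.conj_prod hid ie,
    S.fix_of_commute hid ((S.pat_h hk'u hk'ν d' hid).2 (z_symm hk'd)),
    S.equiv_zero (rfl2_iso hid.2 ie) hk'u hk'ν, rfl2_conj hid.2, rfl2_of_orth hk'd,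
    S.rfl2_dv h', ← h3]

/-! ### The extended frame -/

theorem ext_old {X : Fin (m + 1) → K} (hX : Iso X) (h0 : X (Fin.last m) = 0) :
    Iso (Fin.init X) ∧ extPsi ψ f ν X = ψ (Fin.init X) := by
  refine ⟨⟨fun e => hX.1 ?_, ?_⟩, by rw [extPsi, if_pos h0]⟩
  · funext i
    induction i using Fin.lastCases with
    | last => exact h0
    | cast i => exact congrFun e i
  · have := hX.2
    rwa [hf_init_last, h0, zero_mul, add_zero] at this

theorem ext_new {X : Fin (m + 1) → K} (hX : Iso X) (h0 : X (Fin.last m) ≠ 0) :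
    Unit1 ((X (Fin.last m))⁻¹ • Fin.init X) ∧
      extPsi ψ f ν X = Sv ψ f ν ((X (Fin.last m))⁻¹ • Fin.init X) := by
  refine ⟨unit_smul ?_ (inv_ne_zero h0), by rw [extPsi, if_neg h0]⟩
  have := hX.2
  rw [hf_init_last, k_cube _ h0] at this
  exact v_eq_one this
where
  v_eq_one {a : K} (h : a + 1 = 0) : a = 1 := by revert h; revert a; decide +kernel

theorem ext_mem {X : Fin (m + 1) → K} (hX : Iso X) : extPsi ψ f ν X ∈ D := by
  by_cases h0 : X (Fin.last m) = 0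
  · rw [(S.ext_old hX h0).2]; exact S.emb.mem (S.ext_old hX h0).1
  · rw [(S.ext_new hX h0).2]; exact S.Sv_mem (S.ext_new hX h0).1

theorem ext_smul {X : Fin (m + 1) → K} (hX : Iso X) {c : K} (hc : c ≠ 0) :
    extPsi ψ f ν (c • X) = extPsi ψ f ν X := by
  have e : Fin.init (c • X) = c • Fin.init X := rfl
  by_cases h0 : X (Fin.last m) = 0
  · rw [(S.ext_old hX h0).2, extPsi, if_pos (by simp [h0]), e, S.emb.smul (S.ext_old hX h0).1 hc]
  · rw [(S.ext_new hX h0).2, extPsi, if_neg (by simp [h0, hc]), e, smul_smul, Pi.smul_apply,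
      smul_eq_mul, mul_inv, mul_comm c⁻¹, mul_assoc, inv_mul_cancel₀ hc, mul_one]

/-- An old vector in the new space. -/
theorem old_rfl2 (d : Fin m → K) (X : Fin (m + 1) → K) :
    Fin.init (rfl2 (Fin.snoc d 0) X) = rfl2 d (Fin.init X) ∧
      rfl2 (Fin.snoc d 0) X (Fin.last m) = X (Fin.last m) := by
  have h : hf X (Fin.snoc d 0) = hf (Fin.init X) d := by
    rw [hf_init_last, Fin.init_snoc, Fin.snoc_last]
    simp
  constructor
  · funext i
    simp [rfl2, h, Fin.init]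
  · simp [rfl2]

theorem snoc_iso {d : Fin m → K} (hd : Iso d) : Iso (Fin.snoc d 0 : Fin (m + 1) → K) := by
  refine ⟨fun e => hd.1 ?_, ?_⟩
  · have := congrArg Fin.init e
    rwa [Fin.init_snoc] at this
  · rw [hf_init_last, Fin.init_snoc, Fin.snoc_last, hd.2, zero_mul, add_zero]

theorem ext_equiv [Finite G] {d : Fin m → K} (hd : Iso d) {X : Fin (m + 1) → K} (hX : Iso X) :
    ψ d * extPsi ψ f ν X * ψ d = extPsi ψ f ν (rfl2 (Fin.snoc d 0) X) := by
  obtain ⟨e1, e2⟩ := S.old_rfl2 d X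
  by_cases h0 : X (Fin.last m) = 0
  · rw [(S.ext_old hX h0).2, extPsi, if_pos (e2.trans h0), e1,
      S.emb.conj S.set hd (S.ext_old hX h0).1]
  · rw [(S.ext_new hX h0).2, extPsi, if_neg (by rw [e2]; exact h0), e1, e2,
      S.equiv hd (S.ext_new hX h0).1, rfl2_smul]

/-- The rules for a pair of new points. -/
def Good (ψ : (Fin m → K) → G) (f : G) (ν : Fin m → K) (X Y : Fin (m + 1) → K) : Prop :=
  (Commute (extPsi ψ f ν X) (extPsi ψ f ν Y) ↔ hf Y X = 0) ∧
    extPsi ψ f ν X * extPsi ψ f ν Y * extPsi ψ f ν X = extPsi ψ f ν (rfl2 X Y)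

theorem good_old_new [Finite G] {X Y : Fin (m + 1) → K} (hX : Iso X) (hY : Iso Y)
    (h0 : X (Fin.last m) = 0) : Good ψ f ν X Y := by
  obtain ⟨id, e⟩ := S.ext_old hX h0
  have hXe : Fin.snoc (Fin.init X) 0 = X := by rw [← h0, Fin.snoc_init_self]
  refine ⟨?_, ?_⟩
  · rw [e, hf_init_last, h0, zero_pow two_ne_zero, mul_zero, add_zero]
    by_cases h1 : Y (Fin.last m) = 0
    · rw [(S.ext_old hY h1).2]
      exact S.emb.comm_iff S.set id (S.ext_old hY h1).1
    · rw [(S.ext_new hY h1).2, Commute.symm_iff, S.pat_Sv (S.ext_new hY h1).1 _ id, sr,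
        mul_eq_zero, or_iff_right (pow_ne_zero 2 (inv_ne_zero h1))]
      exact ⟨z_symm, z_symm⟩
  · rw [e, S.ext_equiv id hY, hXe]

theorem good_symm [Finite G] {X Y : Fin (m + 1) → K} (hX : Iso X) (hY : Iso Y)
    (h : Good ψ f ν Y X) : Good ψ f ν X Y := by
  obtain ⟨h1, h2⟩ := h
  refine ⟨by rw [Commute.symm_iff, h1]; exact ⟨z_symm, z_symm⟩, ?_⟩
  have hD := S.set
  by_cases hz : hf Y X = 0
  · rw [rfl2_of_orth hz, ((h1.2 (z_symm hz)).symm).eq, mul_assoc, mul_self hD (S.ext_mem hX),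
      mul_one]
  · rw [braid hD (S.ext_mem hX) (S.ext_mem hY) fun hc => hz (z_symm (h1.1 hc.symm)), h2,
      rfl2_swap (u := Y) (v := X) fun e => hz (z_symm e),
      S.ext_smul (rfl2_iso hX.2 hY) fun e => hz (z_symm e)]

theorem good_conj [Finite G] {d : Fin m → K} (hd : Iso d) {X Y : Fin (m + 1) → K} (hX : Iso X)
    (hY : Iso Y) (h : Good ψ f ν (rfl2 (Fin.snoc d 0) X) (rfl2 (Fin.snoc d 0) Y)) :
    Good ψ f ν X Y := by
  have hD := S.set
  have id' := S.snoc_iso hd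
  obtain ⟨h1, h2⟩ := h
  rw [hf_rfl2 id'.2, ← S.ext_equiv hd hX, ← S.ext_equiv hd hY] at h1
  have key := h2
  rw [← S.ext_equiv hd hX, ← S.ext_equiv hd hY, rfl2_conj id'.2, rfl2_rfl2 id'.2,
    ← S.ext_equiv hd (rfl2_iso hX.2 hY)] at key
  refine ⟨?_, ?_⟩
  · rw [← h1, ← cmap_iff (ψ d) (x := extPsi ψ f ν X), S.emb.inv hD hd]
  · have h3 : ψ d * (extPsi ψ f ν X * extPsi ψ f ν Y * extPsi ψ f ν X) * ψ d =
        ψ d * extPsi ψ f ν (rfl2 X Y) * ψ d := by
      rw [← key]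
      simp only [mul_assoc, mul_self_cancel hD (S.emb.mem hd)]
    exact mul_left_cancel (mul_right_cancel h3)

theorem good_perp [Finite G] {k l : Fin m → K} (hk : Unit1 k) (hl' : Unit1 l) (hkν : hf k ν = 0)
    (hlν : hf l ν = 0) : Good ψ f ν (Fin.snoc k 1) (Fin.snoc l 1) := by
  have hD := S.set
  have eS : ∀ {μ : Fin m → K}, hf μ ν = 0 → extPsi ψ f ν (Fin.snoc μ 1) = hpt ψ f ν μ := fun {μ} h => by
    rw [extPsi, if_neg (by simp), Fin.snoc_last, Fin.init_snoc, inv_one, one_smul, S.Sv_zero h]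
  set p := ν + k with hp
  set q := ν + l with hq
  have ip := S.iso_nuk hk hkν
  have iq := S.iso_nuk hl' hlν
  have nc : ∀ {u}, Iso u → hf u ν ≠ 0 → ¬ Commute (ψ u) f := fun {u} hu h hc =>
    h ((S.pat u hu).1 hc.symm)
  have braidf : ∀ {u}, Iso u → hf u ν ≠ 0 → ψ u * f * ψ u = f * ψ u * f := fun {u} hu h =>
    braid hD (S.emb.mem hu) S.mem (nc hu h)
  have hpν : hf p ν ≠ 0 := by
    rw [hp, hl, show hf ν ν = 1 from S.unit, hkν, add_zero]; exact one_ne_zero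
  have hqν : hf q ν ≠ 0 := by
    rw [hq, hl, show hf ν ν = 1 from S.unit, hlν, add_zero]; exact one_ne_zero
  have es : hf (Fin.snoc l 1 : Fin (m + 1) → K) (Fin.snoc k 1) = hf l k + 1 := by
    rw [hf_init_last, Fin.init_snoc, Fin.init_snoc, Fin.snoc_last, Fin.snoc_last, one_pow, mul_one]
  have eq' : hf q p = hf l k + 1 := by
    rw [hq, hp, hl, hr, hr, show hf ν ν = 1 from S.unit, hlν, z_symm hkν, add_zero, zero_add,
      add_comm]
  have hff : ∀ x : G, f * (f * x) = x := mul_self_cancel hD S.mem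
  refine ⟨?_, ?_⟩
  · rw [eS hkν, eS hlν, es, ← eq', hpt, hpt, ← hp, ← hq, braidf ip hpν, braidf iq hqν,
      ← S.emb.comm_iff hD ip iq]
    conv_lhs => rw [show f * ψ p * f = f * ψ p * f⁻¹ by rw [inv_eq hD S.mem],
      show f * ψ q * f = f * ψ q * f⁻¹ by rw [inv_eq hD S.mem], cmap_iff]
  · rw [eS hkν, eS hlν, hpt, hpt, ← hp, ← hq, braidf ip hpν, braidf iq hqν]
    rw [show f * ψ p * f * (f * ψ q * f) * (f * ψ p * f) = f * (ψ p * ψ q * ψ p) * f by
      simp only [mul_assoc, hff]]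
    rw [S.emb.conj hD ip iq]
    set z := rfl2 p q with hz
    have iz : Iso z := rfl2_iso ip.2 iq
    set s := hf l k + 1 with hs
    have ez : z = (1 + s) • ν + (l + s • k) := by
      rw [hz, rfl2, eq', hq, hp, add_smul (1 : K) s ν, one_smul, smul_add]; abel
    have hxν : hf (l + s • k) ν = 0 := by rw [hl, sl, hlν, hkν, mul_zero, add_zero]
    have hzν : hf z ν = 1 + s := by
      rw [ez, hl, sl, show hf ν ν = 1 from S.unit, hxν, mul_one, add_zero]
    have eY : rfl2 (Fin.snoc k 1) (Fin.snoc l 1) = (Fin.snoc (l + s • k) (1 + s) : Fin (m + 1) → K) := by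
      funext i
      rw [rfl2, es]
      induction i using Fin.lastCases with
      | last => simp
      | cast i => simp
    rw [eY, extPsi, Fin.snoc_last, Fin.init_snoc]
    by_cases h1 : 1 + s = 0
    · rw [if_pos h1]
      rw [h1, zero_smul, zero_add] at ez
      rw [← ez, ((S.pat z iz).2 (by rw [hzν, h1])).eq, mul_assoc, mul_self hD S.mem, mul_one]
    · rw [if_neg h1, ← braidf iz (by rw [hzν]; exact h1)]
      conv_lhs => rw [← S.Sv_self, S.equiv iz S.unit]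
      congr 1
      rw [rfl2, symm' z ν, hzν, ez, k_inv_sq _ h1, smul_add, smul_smul,
        show (1 + s) ^ 2 * (1 + s) = 1 by rw [mul_comm]; exact k_cube _ h1, one_smul, ← add_assoc,
        v_add_self, zero_add]

theorem good_new_new [Finite G] {μ μ' : Fin m → K} (hμ : Unit1 μ) (hμ' : Unit1 μ') :
    Good ψ f ν (Fin.snoc μ 1) (Fin.snoc μ' 1) := by
  have hu : ∀ {x : Fin m → K}, Unit1 x → Iso (Fin.snoc x 1 : Fin (m + 1) → K) := by
    intro x hx
    refine ⟨fun e => one_ne_zero (α := K) ?_, ?_⟩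
    · simpa using congrFun e (Fin.last m)
    · rw [hf_init_last, Fin.init_snoc, Fin.snoc_last, show hf x x = 1 from hx, one_pow, mul_one,
        k_add_self]
  have step : ∀ {b x y : Fin m → K}, Iso b → Unit1 x → Unit1 y →
      Good ψ f ν (Fin.snoc (rfl2 b x) 1) (Fin.snoc (rfl2 b y) 1) →
      Good ψ f ν (Fin.snoc x 1) (Fin.snoc y 1) := by
    intro b x y hb hx hy h
    refine S.good_conj hb (hu hx) (hu hy) ?_
    have e : ∀ x : Fin m → K, rfl2 (Fin.snoc b 0) (Fin.snoc x 1) =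
        (Fin.snoc (rfl2 b x) 1 : Fin (m + 1) → K) := fun x => by
      obtain ⟨e1, e2⟩ := S.old_rfl2 b (Fin.snoc x 1)
      rw [Fin.init_snoc] at e1
      rw [Fin.snoc_last] at e2
      conv_lhs => rw [← Fin.snoc_init_self (rfl2 (Fin.snoc b 0) (Fin.snoc x 1)), e1, e2]
    rwa [e, e]
  obtain ⟨ρ, hρ, hρν, hρμ⟩ := exists_unit_perp S.four S.unit μ
  obtain ⟨i1, t1, -⟩ := move hμ hρ (z_symm hρμ)
  refine step i1 hμ hμ' ?_
  rw [t1]
  obtain ⟨i2, t2, -⟩ := move hρ S.unit hρν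
  refine step i2 hρ (rfl2_unit i1.2 hμ') ?_
  rw [t2]
  set μ'' := rfl2 (ρ + ν) (rfl2 (μ + ρ) μ') with hμ''
  have hμ''u : Unit1 μ'' := rfl2_unit i2.2 (rfl2_unit i1.2 hμ')
  obtain ⟨σ, hσ, hσν, hσμ⟩ := exists_unit_perp S.four S.unit μ''
  obtain ⟨i3, t3, t4⟩ := move S.unit hσ (z_symm hσν)
  refine step i3 S.unit hμ''u ?_
  rw [t3]
  refine S.good_perp hσ (rfl2_unit i3.2 hμ''u) hσν ?_
  rw [hf_rfl2_left i3.2, t3]
  exact z_symm hσμ

theorem good_all [Finite G] {X Y : Fin (m + 1) → K} (hX : Iso X) (hY : Iso Y) : Good ψ f ν X Y := by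
  by_cases h0 : X (Fin.last m) = 0
  · exact S.good_old_new hX hY h0
  by_cases h1 : Y (Fin.last m) = 0
  · exact S.good_symm hX hY (S.good_old_new hY hX h1)
  have key : ∀ {Z : Fin (m + 1) → K}, Z (Fin.last m) ≠ 0 →
      (Fin.snoc ((Z (Fin.last m))⁻¹ • Fin.init Z) 1 : Fin (m + 1) → K) =
        (Z (Fin.last m))⁻¹ • Z := by
    intro Z hZ
    funext i
    induction i using Fin.lastCases with
    | last => simp [hZ]
    | cast i => simp [Fin.init]
  obtain ⟨h2, h3⟩ := S.good_new_new (S.ext_new hX h0).1 (S.ext_new hY h1).1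
  have hx := inv_ne_zero h0
  have hy := inv_ne_zero h1
  rw [key h0, key h1] at h2 h3
  rw [S.ext_smul hX hx, S.ext_smul hY hy] at h2 h3
  refine ⟨?_, ?_⟩
  · rw [h2, sl, sr, mul_eq_zero, or_iff_right hy, mul_eq_zero, or_iff_right (pow_ne_zero 2 hx)]
  · rw [h3, rfl2_centre hx, rfl2_smul, S.ext_smul (rfl2_iso hX.2 hY) hy]

theorem exists_mover [Finite G] (g : Cfsg.SU (m + 1) K 2) :
    ∃ γ : G, ∀ Z, Iso Z → γ * extPsi ψ f ν Z * γ⁻¹ = extPsi ψ f ν (act g Z) := by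
  have hg : g ∈ Subgroup.closure {A : Cfsg.SU (m + 1) K 2 | ∃ v, Iso v ∧ A = tv cardK v} := by
    rw [closure_tv cardK (by have := S.four; omega)]; exact Subgroup.mem_top g
  induction hg using Subgroup.closure_induction with
  | mem A hA =>
    obtain ⟨v, hv, rfl⟩ := hA
    refine ⟨extPsi ψ f ν v, fun Z hZ => ?_⟩
    rw [act_tv_eq hv.2, inv_eq S.set (S.ext_mem hv), (S.good_all hv hZ).2]
  | one => exact ⟨1, fun Z _ => by rw [act_one, one_mul, inv_one, mul_one]⟩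
  | mul a b _ _ ha hb =>
    obtain ⟨α, ha⟩ := ha
    obtain ⟨β, hb⟩ := hb
    refine ⟨α * β, fun Z hZ => ?_⟩
    rw [act_mul, ← ha _ (hZ.act b), ← hb Z hZ]; group
  | inv a _ ha =>
    obtain ⟨α, ha⟩ := ha
    refine ⟨α⁻¹, fun Z hZ => ?_⟩
    have h1 := ha _ (hZ.act a⁻¹)
    rw [act_act_inv] at h1
    rw [← h1]; group

/-- The extension. -/
theorem exists_extension [Finite G] :
    Emb D (m + 1) (extPsi ψ f ν) := by
  have h4 := S.four
  refine ⟨by omega, fun hv => S.ext_mem hv, fun hv hc => S.ext_smul hv hc,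
    fun hu hv h => (S.good_all hu hv).1.2 h, fun hu hv h hc => h ((S.good_all hu hv).1.1 hc),
    fun hu hv _ => (S.good_all hu hv).2, ?_⟩
  intro U W hUW c
  obtain ⟨w, hw⟩ := Cfsg.Agent.Unitary.exists_orthonormalBasis (q := 2)
    (Cfsg.Agent.U62Cover.card_sq cardK) (herm cardK)
    (Cfsg.Agent.Unitary.hermForm_nondeg (Cfsg.Agent.U62Cover.card_sq cardK) m)
  have hm : Module.finrank K (Fin m → K) = m := Module.finrank_fin_fun K
  let i : Fin 4 → Fin (Module.finrank K (Fin m → K)) := Fin.castLE (by omega)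
  have hi : ∀ {a b : Fin 4}, a ≠ b → hf (w (i a)) (w (i b)) = 0 := fun h =>
    hw.2 fun e => h (Fin.castLE_injective _ e)
  set u₀ := w (i 0) + w (i 1) with hu₀
  set w₀ := w (i 2) + w (i 3) with hw₀
  have iu : Iso u₀ := (move (hw.1 _) (hw.1 _) (hi (by decide))).1
  have iw : Iso w₀ := (move (hw.1 _) (hw.1 _) (hi (by decide))).1
  have huw : hf u₀ w₀ = 0 := by
    rw [hu₀, hw₀, hl, hr, hr, hi (by decide : (0 : Fin 4) ≠ 2), hi (by decide : (0 : Fin 4) ≠ 3),
      hi (by decide : (1 : Fin 4) ≠ 2), hi (by decide : (1 : Fin 4) ≠ 3), add_zero, add_zero]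
  have h0 : OrthPair u₀ w₀ := by
    refine ⟨iu, iw, huw, fun a ha => ?_⟩
    have h1 := congrArg (fun y => hf y (w (i 2))) ha
    simp only [hu₀, hw₀, hl, sl, show hf (w (i 2)) (w (i 2)) = 1 from hw.1 _,
      hi (by decide : (3 : Fin 4) ≠ 2), hi (by decide : (0 : Fin 4) ≠ 2),
      hi (by decide : (1 : Fin 4) ≠ 2), mul_zero, add_zero] at h1
    exact one_ne_zero h1
  let U₀ : Fin (m + 1) → K := Fin.snoc u₀ 0
  let W₀ : Fin (m + 1) → K := Fin.snoc w₀ 0
  have hUW₀ : OrthPair U₀ W₀ := by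
    refine ⟨S.snoc_iso iu, S.snoc_iso iw, ?_, fun a ha => h0.2.2.2 a ?_⟩
    · rw [hf_init_last]; simp [U₀, W₀, huw]
    · funext j
      have := congrFun ha j.castSucc
      simpa [U₀, W₀] using this
  obtain ⟨g, hgU, hgW⟩ := exists_act_two cardK (by omega) hUW₀ hUW
  obtain ⟨γ, hγ⟩ := S.exists_mover g
  have hsum : U₀ + c • W₀ = Fin.snoc (u₀ + c • w₀) 0 := by
    funext j
    induction j using Fin.lastCases with
    | last => simp [U₀, W₀]
    | cast j => simp [U₀, W₀]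
  have eold : ∀ d : Fin m → K, extPsi ψ f ν (Fin.snoc d 0) = ψ d := fun d => by
    rw [extPsi, if_pos (Fin.snoc_last _ _), Fin.init_snoc]
  have hbase := line_conj_mem S.polar.conj γ (S.emb.line h0 c)
  have hi' : Iso (U₀ + c • W₀) := ((hUW₀.symm cardK).shift cardK c).2.1
  rw [← eold u₀, ← eold w₀, ← eold (u₀ + c • w₀), ← hsum, hγ _ hUW₀.1, hγ _ hUW₀.2.1, hγ _ hi',
    act_add, act_smul, hgU, hgW] at hbase
  exact hbase

end Step

end Cfsg.Agent.FischerPolar
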