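/-
Five points on a line: the polar axioms and the unitary group.

Main results: `polar_of_pre`, `equiv_psu_of_pre`.
-/
import Cfsg.Agent.Lib.FischerPolar.Unitary.Psu
import Cfsg.Agent.Lib.ThreeTrans.Polar.Five

set_option autoImplicit false

namespace Cfsg.Agent.FischerPolar

open Cfsg Cfsg.Agent.ThreeTrans Cfsg.Agent.ThreeTransRank
open Cfsg.Agent.ThreeTrans.Polar (Pre pts)

variable {G : Type*} [Group G] [Finite G] {D : Set G}

theorem line_eq_pts (h : Pre D) {a b : G} (ha : a ∈ D) (hb : b ∈ D) (hne : a ≠ b)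
    (hab : Commute a b) : line D a b = pts D a b := by
  ext v
  constructor
  · intro hv
    obtain ⟨h1, h2⟩ := line_comm ha hb hab hv
    refine ⟨⟨hv.1, h1.symm, h2.symm⟩, ?_⟩
    rcases eq_or_ne v a with rfl | hva
    · exact Or.inl rfl
    refine Or.inr ?_
    have hsub : SolvLocal.line D a b ⊆ SolvLocal.line D a v :=
      fun z hz => ⟨hz.1, hz.2.1, hv.2 z hz.1 hz.2.1 hz.2.2⟩
    refine (Set.eq_of_subset_of_ncard_le hsub ?_ (Set.toFinite _)).symm
    rw [SolvLocal.ncard_line_eq h.rad h.cls ha hv.1 ha hb h1 hab hva.symm hne]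
  · intro hv
    exact ⟨hv.1.1, fun e he h1 h2 =>
      h.commute_all ha hb hne hab he (Polar.left_mem_pts ha hab) (Polar.right_mem_pts hb hab) hne
        h1 h2 hv⟩

theorem polar_of_pre (h : Pre D) {s : ℕ} {a b : G} (ha : a ∈ D) (hb : b ∈ D) (hne : a ≠ b)
    (hab : Commute a b) (hs : (pts D a b).ncard = s) : FischerPolar.Polar D s where
  cls := h.cls
  rad := h.rad
  conn := h.conn
  card {c d} hc hd hne' hcd := by
    rw [line_eq_pts h hc hd hne' hcd, h.ncard_pts_eq hc hd hne' hcd ha hb hne hab, hs]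
  hit {c d e} hc hd hne' hcd he := by
    rw [line_eq_pts h hc hd hne' hcd]
    exact h.hit hc hd hne' hcd he

/-- Five points on a line: the class is that of transvections of a unitary group over `GF(4)`. -/
theorem equiv_psu_of_pre (h : Pre D) {a b : G} (ha : a ∈ D) (hb : b ∈ D) (hne : a ≠ b)
    (hab : Commute a b) (h5 : (pts D a b).ncard = 5) :
    ∃ n, 4 ≤ n ∧ ∃ e : G ≃* Cfsg.PSU n K 2, e '' D = transvections n :=
  (polar_of_pre h ha hb hne hab h5).exists_iso_psu h.adj_ne

end Cfsg.Agent.FischerPolar
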