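/-
The unitary transvections are the elements `g` with `g - 1` of rank one.

Main results: `rank_tv_sub_one`, `exists_tv_of_rank`, `transvections_eq_rankOne`.
-/
import Cfsg.Agent.Lib.FischerPolar.Unitary.Psu

set_option autoImplicit false

namespace Cfsg.Agent.FischerPolar

open Cfsg Cfsg.Agent.ThreeTransSU Cfsg.Agent.U62Cover
open scoped Matrix

variable {F : Type*} [Field F] [Fintype F] {n : ℕ}

/-- The matrix of an element of the special unitary group. -/
abbrev mat (g : Cfsg.SU n F 2) : Matrix (Fin n) (Fin n) F :=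
  ((g : Matrix.SpecialLinearGroup (Fin n) F) : Matrix (Fin n) (Fin n) F)

omit [Fintype F] in
theorem act_eq_mat (g : Cfsg.SU n F 2) (x : Fin n → F) : act g x = mat g *ᵥ x := rfl

omit [Fintype F] in
theorem sub_one_mulVec (g : Cfsg.SU n F 2) (x : Fin n → F) : (mat g - 1) *ᵥ x = act g x - x := by
  rw [Matrix.sub_mulVec, Matrix.one_mulVec]; rfl

theorem rank_tv_sub_one (hF : Fintype.card F = 4) {v : Fin n → F} (hv : Iso v) :
    (mat (tv hF v) - 1).rank = 1 := by
  classical
  obtain ⟨x, hx⟩ := exists_hf_one hF hv.1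
  have h : LinearMap.range (mat (tv hF v) - 1).mulVecLin = Submodule.span F {v} := by
    ext y
    rw [LinearMap.mem_range, Submodule.mem_span_singleton]
    constructor
    · rintro ⟨u, rfl⟩
      refine ⟨hf u v, ?_⟩
      rw [Matrix.mulVecLin_apply, sub_one_mulVec, act_tv hF hv.2, add_sub_cancel_left]
    · rintro ⟨a, rfl⟩
      refine ⟨a • x, ?_⟩
      rw [Matrix.mulVecLin_apply, sub_one_mulVec, act_tv hF hv.2, add_sub_cancel_left,
        hf_smul_left hF, hx, mul_one]
  show Module.finrank F (LinearMap.range (mat (tv hF v) - 1).mulVecLin) = 1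
  rw [h, finrank_span_singleton hv.1]

theorem exists_tv_of_rank (hF : Fintype.card F = 4) {g : Cfsg.SU n F 2} (hr : (mat g - 1).rank = 1) :
    ∃ v, Iso v ∧ g = tv hF v := by
  classical
  have hr' : Module.finrank F (LinearMap.range (mat g - 1).mulVecLin) = 1 := hr
  obtain ⟨⟨v, a, hva⟩, hv0, hspan⟩ := finrank_eq_one_iff'.mp hr'
  have hv : v ≠ 0 := fun h => hv0 (Subtype.ext h)
  obtain ⟨i, hi⟩ : ∃ i, v i ≠ 0 := Function.ne_iff.1 hv
  set φ : Fin n → F := fun j => (mat g - 1) i j / v i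
  have hact : ∀ x, act g x = x + (φ ⬝ᵥ x) • v := by
    intro x
    obtain ⟨c, hc⟩ := hspan ⟨(mat g - 1) *ᵥ x, x, rfl⟩
    have hc' : c • v = (mat g - 1) *ᵥ x := congrArg Subtype.val hc
    have hφ : φ ⬝ᵥ x = c := by
      have h2 : ((mat g - 1) *ᵥ x) i = c * v i := by rw [← hc']; rfl
      calc φ ⬝ᵥ x = ((mat g - 1) *ᵥ x) i / v i := by
            simp only [φ, dotProduct, Matrix.mulVec, Finset.sum_div]
            exact Finset.sum_congr rfl fun j _ => by ring
        _ = c := by rw [h2, mul_div_cancel_right₀ _ hi]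
    have h3 := sub_one_mulVec g x
    rw [← hc', eq_sub_iff_add_eq] at h3
    rw [hφ, ← h3, add_comm]
  have hM : mat g = 1 + Matrix.vecMulVec v φ := by
    refine Matrix.ext_of_mulVec_single fun j => ?_
    rw [← act_eq_mat, hact, Matrix.add_mulVec, Matrix.one_mulVec]
    congr 1
    funext l
    simp only [Matrix.mulVec, Matrix.vecMulVec_apply, dotProduct, Finset.sum_mul, Pi.smul_apply,
      smul_eq_mul]
    exact Finset.sum_congr rfl fun i _ => by ring
  have hφv : φ ⬝ᵥ v = 0 := by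
    have h := (g : Matrix.SpecialLinearGroup (Fin n) F).2
    change (mat g).det = 1 at h
    rw [hM, Matrix.vecMulVec_eq Unit, Matrix.det_one_add_replicateCol_mul_replicateRow] at h
    exact add_eq_left.1 h
  have hgv : act g v = v := by rw [hact, hφv, zero_smul, add_zero]
  have hφ0 : ∃ x, φ ⬝ᵥ x ≠ 0 := by
    by_contra hcon
    push Not at hcon
    refine hv (hva.symm.trans ?_)
    rw [Matrix.mulVecLin_apply, sub_one_mulVec, hact, hcon, zero_smul, add_zero, sub_self]
  have hvv : hf v v = 0 := by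
    obtain ⟨x, hx⟩ := hφ0
    have h := act_hf g x v
    rw [hact, hgv, hf_add_left hF, hf_smul_left hF, add_eq_left, mul_eq_zero] at h
    exact h.resolve_left hx
  obtain ⟨y, hy⟩ := exists_hf_one hF hv
  have hc : ∀ x, φ ⬝ᵥ x = (φ ⬝ᵥ y) ^ 2 * hf x v := by
    intro x
    have h := act_hf g x y
    rw [hact x, hact y, hf_add_left hF, hf_add_right hF, hf_add_right hF, hf_smul_left hF,
      hf_smul_left hF, hf_smul_right hF, hf_smul_right hF, hvv, hf_eq_one_symm hF hy] at h
    linear_combination h - ((φ ⬝ᵥ y) ^ 2 * hf x v) * two_eq_zero hF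
  have hy1 : φ ⬝ᵥ y = 1 := by
    have h := hc y
    rw [hy, mul_one] at h
    have hne : φ ⬝ᵥ y ≠ 0 := fun h0 => by
      obtain ⟨x, hx⟩ := hφ0
      exact hx (by rw [hc x, h0, zero_pow two_ne_zero, zero_mul])
    exact (mul_right_cancel₀ hne (by rw [one_mul, ← pow_two]; exact h.symm))
  refine ⟨v, ⟨hv, hvv⟩, act_ext fun x => ?_⟩
  rw [hact, act_tv hF hvv, hc, hy1, one_pow, one_mul]

/-- The classes in the two descriptions agree. -/
theorem transvections_eq_rankOne :
    transvections n = (QuotientGroup.mk : ↥(Cfsg.SU n K 2) → Cfsg.PSU n K 2) ''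
      {g : ↥(Cfsg.SU n K 2) |
        (((g : Matrix.SpecialLinearGroup (Fin n) K) : Matrix (Fin n) (Fin n) K) - 1).rank = 1} := by
  ext x
  constructor
  · rintro ⟨v, hv, rfl⟩
    exact ⟨tv cardK v, rank_tv_sub_one cardK hv, rfl⟩
  · rintro ⟨g, hg, rfl⟩
    obtain ⟨v, hv, rfl⟩ := exists_tv_of_rank cardK hg
    exact ⟨v, hv, rfl⟩

end Cfsg.Agent.FischerPolar
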