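/-
The setting from one member whose local 2-core is not central.

Main results: `pre_of_not_central`.
-/
import Cfsg.Agent.Lib.ThreeTrans.Polar.Basic
import Cfsg.Agent.Lib.ThreeTrans.ConnectedPerfect

set_option autoImplicit false

namespace Cfsg.Agent.FischerPolar

open Cfsg Cfsg.Agent.ThreeTrans Cfsg.Agent.ThreeTransRank

variable {G : Type*} [Group G] [Finite G] {D : Set G}

theorem pre_of_not_central (hrad : TrivialRadical G) (hD : IsThreeTranspositionClass D)
    (hconn : ConnectedComm D) {x : G} (hx : x ∈ D)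
    (h : ¬ pCore 2 ↥(Loc D x) ≤ Subgroup.center ↥(Loc D x)) : ThreeTrans.Polar.Pre D := by
  have hne : (adj D x).Nonempty := by
    by_contra hn
    rw [Set.not_nonempty_iff_eq_empty] at hn
    have hbot : Loc D x = ⊥ := by rw [Loc, hn, Subgroup.closure_empty]
    refine h fun y _ => Subgroup.mem_center_iff.2 fun z => ?_
    have hy : (y : G) = 1 := Subgroup.mem_bot.1 (hbot ▸ y.2)
    exact Subtype.ext (by simp [hy])
  refine ⟨hD, hrad, hconn, fun y hy => adj_nonempty_all hD hx hy hne, fun y hy hle => h ?_⟩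
  obtain ⟨g, hg⟩ := class_conj hD hy hx
  have e : (Loc D y).map (MulAut.conj g).toMonoidHom = Loc D x := by
    rw [Loc, Loc, MonoidHom.map_closure, ← hg, adj_conj_image (group_of_class hD).2.1]
    rfl
  let f := ((Loc D y).equivMapOfInjective _ (MulAut.conj g).injective).trans (MulEquiv.subgroupCongr e)
  intro z hz
  rw [← Cores.pCore_map_mulEquiv f] at hz
  obtain ⟨u, hu, rfl⟩ := hz
  rw [Subgroup.mem_center_iff]
  intro v
  obtain ⟨w, rfl⟩ := f.surjective v
  show f w * f u = f u * f w
  rw [← map_mul, ← map_mul, Subgroup.mem_center_iff.1 (hle hu) w]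

end Cfsg.Agent.FischerPolar
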