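/-
Symplectic transvections over the field with two elements as the matrices `g` with `g - 1` of rank one.

Main results: `exists_sp_equiv`.
-/
import Cfsg.Agent.Lib.SympGeom.Iso

set_option autoImplicit false

namespace Cfsg.Agent.FischerPolar

open Matrix Module Cfsg.Agent.GLOrder Cfsg.Agent.SympGeom

variable {V : Type*} [AddCommGroup V] [Module (ZMod 2) V] [FiniteDimensional (ZMod 2) V]

omit [FiniteDimensional (ZMod 2) V] in
/-- An isometry moving vectors along one line is a transvection. -/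
theorem transvection_of_line (B : LinearMap.BilinForm (ZMod 2) V) (halt : ∀ x, B x x = 0)
    (hnd : ∀ x, (∀ y, B x y = 0) → x = 0) {f : V ≃ₗ[ZMod 2] V} (hf : ∀ u v, B (f u) (f v) = B u v)
    {a : V} (ha : a ≠ 0) (hline : ∀ x, ∃ c : ZMod 2, f x = x + c • a) (hne : ∃ x, f x ≠ x) (x : V) :
    f x = x + B a x • a := by
  have hsw : ∀ u v, B v u = B u v := fun u v => by rw [alt_swap halt u v, CharTwo.neg_eq]
  choose c hc using hline
  have key : ∀ u v, c u * B a v + c v * B a u = 0 := by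
    intro u v
    have h := hf u v
    rw [hc u, hc v] at h
    simp only [map_add, map_smul, LinearMap.add_apply, LinearMap.smul_apply, smul_eq_mul, halt,
      mul_zero, add_zero, hsw a u] at h
    linear_combination h
  obtain ⟨y, hy⟩ : ∃ y, B a y = 1 := by
    by_contra hcon
    push Not at hcon
    refine ha (hnd a fun y => ?_)
    have key2 : ∀ t : ZMod 2, t ≠ 1 → t = 0 := by decide
    exact key2 _ (hcon y)
  have hcx : ∀ u, c u = c y * B a u := fun u => by
    have h := key u y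
    rw [hy, mul_one] at h
    have key2 : ∀ s t : ZMod 2, s + t = 0 → s = t := by decide
    exact key2 _ _ h
  obtain ⟨z, hz⟩ := hne
  have hy1 : c y = 1 := by
    have key2 : ∀ t : ZMod 2, t ≠ 0 → t = 1 := by decide
    refine key2 _ fun h0 => hz ?_
    rw [hc z, hcx z, h0, zero_mul, zero_smul, add_zero]
  rw [hc x, hcx x, hy1, one_mul]

/-- Coordinates in which the transvections are the elements `g` with `g - 1` of rank one. -/
theorem exists_sp_equiv (B : LinearMap.BilinForm (ZMod 2) V) (halt : ∀ x, B x x = 0)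
    (hnd : ∀ x, (∀ y, B x y = 0) → x = 0) {m : ℕ} (hr : finrank (ZMod 2) V = 2 * m) :
    ∃ ψ : isoGrp B ≃* Matrix.symplecticGroup (Fin m) (ZMod 2), ∀ f : isoGrp B,
      ((ψ f : Matrix (Fin m ⊕ Fin m) (Fin m ⊕ Fin m) (ZMod 2)) - 1).rank = 1 ↔
        ∃ a, a ≠ 0 ∧ ∀ x, (f : V ≃ₗ[ZMod 2] V) x = x + B a x • a := by
  obtain ⟨Φ, hΦ⟩ := exists_sympEquiv B halt hnd hr
  refine ⟨(isoGrpCongr Φ hΦ).symm.trans (spIso m (ZMod 2)).symm, fun f => ?_⟩
  set M : Matrix (Fin m ⊕ Fin m) (Fin m ⊕ Fin m) (ZMod 2) :=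
    (((isoGrpCongr Φ hΦ).symm.trans (spIso m (ZMod 2)).symm) f :
      Matrix (Fin m ⊕ Fin m) (Fin m ⊕ Fin m) (ZMod 2)) with hM
  have hMx : ∀ x, M *ᵥ x = Φ.symm ((f : V ≃ₗ[ZMod 2] V) (Φ x)) := fun x => by
    rw [hM]
    exact LinearMap.toMatrix'_mulVec _ x
  have hsub : ∀ x, (M - 1).mulVecLin x =
      Φ.symm ((f : V ≃ₗ[ZMod 2] V) (Φ x) - Φ x) := fun x => by
    rw [mulVecLin_apply, sub_mulVec, one_mulVec, hMx, map_sub, LinearEquiv.symm_apply_apply]
  constructor
  · intro h
    obtain ⟨⟨v, u, hu⟩, hv0, hspan⟩ :=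
      finrank_eq_one_iff'.mp (show finrank (ZMod 2) (LinearMap.range (M - 1).mulVecLin) = 1 from h)
    have hv : Φ v ≠ 0 := fun e => hv0 (Subtype.ext (Φ.map_eq_zero_iff.1 e))
    refine ⟨Φ v, hv, transvection_of_line B halt hnd f.2 hv (fun x => ?_) ⟨Φ u, fun e => ?_⟩⟩
    · obtain ⟨c, hc⟩ := hspan ⟨(M - 1).mulVecLin (Φ.symm x), _, rfl⟩
      have hc' : c • v = (M - 1).mulVecLin (Φ.symm x) := congrArg Subtype.val hc
      rw [hsub, LinearEquiv.apply_symm_apply] at hc'
      have h2 := congrArg Φ hc'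
      rw [map_smul, LinearEquiv.apply_symm_apply] at h2
      exact ⟨c, by rw [h2]; abel⟩
    · rw [hsub, e, sub_self, map_zero] at hu
      exact hv (by rw [← hu, map_zero])
  · rintro ⟨a, ha, hfa⟩
    have hrange : LinearMap.range (M - 1).mulVecLin = Submodule.span (ZMod 2) {Φ.symm a} := by
      obtain ⟨y, hy⟩ : ∃ y, B a y = 1 := by
        by_contra hcon
        push Not at hcon
        refine ha (hnd a fun y => ?_)
        have key2 : ∀ t : ZMod 2, t ≠ 1 → t = 0 := by decide
        exact key2 _ (hcon y)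
      have hval : ∀ x, (M - 1).mulVecLin x = B a (Φ x) • Φ.symm a := fun x => by
        rw [hsub, hfa, add_sub_cancel_left, map_smul]
      ext z
      rw [LinearMap.mem_range, Submodule.mem_span_singleton]
      constructor
      · rintro ⟨x, rfl⟩; exact ⟨_, (hval x).symm⟩
      · rintro ⟨c, rfl⟩
        refine ⟨c • Φ.symm y, ?_⟩
        rw [hval, map_smul, LinearEquiv.apply_symm_apply, map_smul, hy, smul_eq_mul, mul_one]
    show finrank (ZMod 2) (LinearMap.range (M - 1).mulVecLin) = 1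
    rw [hrange, finrank_span_singleton fun e => ha (Φ.symm.map_eq_zero_iff.1 e)]

end Cfsg.Agent.FischerPolar
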