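/-
Non-central local 2-core: the symplectic and unitary groups with their classes of transvections.

Main results: `recognition`.
-/
import Cfsg.Agent.Lib.FischerPolar.FromPre
import Cfsg.Agent.Lib.FischerPolar.Setting
import Cfsg.Agent.Lib.FischerPolar.RankOne
import Cfsg.Agent.Lib.ThreeTrans.Polar.Symplectic

set_option autoImplicit false

namespace Cfsg.Agent.FischerPolar

open Cfsg Cfsg.Agent.ThreeTrans Cfsg.Agent.ThreeTransRank

variable {G : Type*} [Group G] [Finite G] {D : Set G}

/-- A connected class with trivial radical and a non-central local 2-core is a class of symplectic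
or unitary transvections. -/
theorem recognition (hrad : TrivialRadical G) (hD : IsThreeTranspositionClass D)
    (hconn : ConnectedComm D) {x : G} (hx : x ∈ D)
    (h : ¬ pCore 2 ↥(Loc D x) ≤ Subgroup.center ↥(Loc D x)) :
    (∃ m : ℕ, ∃ e : G ≃* Matrix.symplecticGroup (Fin m) (ZMod 2),
      e '' D = {g : Matrix.symplecticGroup (Fin m) (ZMod 2) |
        ((g : Matrix (Fin m ⊕ Fin m) (Fin m ⊕ Fin m) (ZMod 2)) - 1).rank = 1}) ∨
    (∃ (n : ℕ) (F : Type) (_ : Field F) (_ : Fintype F), Fintype.card F = 4 ∧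
      ∃ e : G ≃* Cfsg.PSU n F 2,
        e '' D = (QuotientGroup.mk : ↥(Cfsg.SU n F 2) → Cfsg.PSU n F 2) ''
          {g : ↥(Cfsg.SU n F 2) | (((g : Matrix.SpecialLinearGroup (Fin n) F) :
            Matrix (Fin n) (Fin n) F) - 1).rank = 1}) := by
  have hP := pre_of_not_central hrad hD hconn hx h
  obtain ⟨b, hb, hne, hab⟩ := hP.adj_ne x hx
  rcases hP.pts_size hx hb hne.symm hab with h3 | h5
  · refine Or.inl (ThreeTrans.Polar.Pre.equiv_sp_image hP fun c hc d hd hcd hcomm => ?_)
    rw [hP.ncard_pts_eq hc hd hcd hcomm hx hb hne.symm hab, h3]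
  · obtain ⟨n, -, e, he⟩ := equiv_psu_of_pre hP hx hb hne.symm hab h5
    exact Or.inr ⟨n, K, inferInstance, inferInstance, cardK, e,
      by rw [he, transvections_eq_rankOne]⟩

end Cfsg.Agent.FischerPolar
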