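/-
Reduction of the classification of 3-transposition groups with trivial centre and simple derived group
to the case in which every local group has central 2- and 3-cores.

Main results: `trivialRadical_of_simple_commutator`, `swaps_of_class`, `equiv_perm_three`, `fischer_cases`.
-/
import Cfsg.Agent.Lib.FischerPolar.Recognition
import Cfsg.Agent.Lib.ThreeTrans.CoreNoncentral
import Cfsg.Agent.Lib.ThreeTrans.RankThree

set_option autoImplicit false

namespace Cfsg.Agent.FischerPolar

open Cfsg Cfsg.Agent.ThreeTrans Cfsg.Agent.ThreeTransRank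

variable {G : Type*} [Group G] {D : Set G}

theorem trivialRadical_of_simple_commutator (hZ : Subgroup.center G = ⊥)
    (hS : IsSimpleGroup (commutator G)) (hna : ¬ Group.IsSolvable ↥(commutator G)) :
    TrivialRadical G := by
  intro N hN hsolN
  have h1 : N ⊓ commutator G = ⊥ := by
    rcases hS.eq_bot_or_eq_top_of_normal (N.subgroupOf (commutator G)) inferInstance with h | h
    · rwa [Subgroup.subgroupOf_eq_bot, disjoint_iff] at h
    · rw [Subgroup.subgroupOf_eq_top] at h
      exact absurd (Group.isSolvable_of_isSolvable_injective (f := Subgroup.inclusion h)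
        (Subgroup.inclusion_injective h)) hna
  rw [eq_bot_iff, ← hZ]
  intro x hx
  rw [Subgroup.mem_center_iff]
  intro g
  have h2 : g * x * g⁻¹ * x⁻¹ ∈ N ⊓ commutator G :=
    ⟨N.mul_mem (hN.conj_mem x hx g) (N.inv_mem hx),
      Subgroup.commutator_mem_commutator (Subgroup.mem_top g) (Subgroup.mem_top x)⟩
  rw [h1, Subgroup.mem_bot, mul_inv_eq_one, mul_inv_eq_iff_eq_mul] at h2
  exact h2

theorem sign_pos_of_sq_three : ∀ σ : Equiv.Perm (Fin 3),
    σ * σ = 1 → σ ≠ 1 → Equiv.Perm.sign σ = -1 → σ.IsSwap := by
  unfold Equiv.Perm.IsSwap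
  decide +kernel

theorem swap_of_odd_involution : ∀ σ : Equiv.Perm (Fin 5),
    σ * σ = 1 → σ ≠ 1 → Equiv.Perm.sign σ = -1 → σ.IsSwap := by
  unfold Equiv.Perm.IsSwap
  decide +kernel

/-- A generating class of involutions of a small symmetric group consists of the transpositions. -/
theorem swaps_of_class {n : ℕ} (hn : 2 ≤ n)
    (hsw : ∀ σ : Equiv.Perm (Fin n), σ * σ = 1 → σ ≠ 1 → Equiv.Perm.sign σ = -1 → σ.IsSwap)
    (hD : IsThreeTranspositionClass D) (e : G ≃* Equiv.Perm (Fin n)) :
    e '' D = {σ : Equiv.Perm (Fin n) | σ.IsSwap} := by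
  have hg := group_of_class hD
  obtain ⟨d₀, hd₀, hcl⟩ := id hD.2.1
  have hodd : ∀ d ∈ D, Equiv.Perm.sign (e d) = -1 := by
    intro d hd
    refine (Int.units_eq_one_or _).resolve_left fun h1 => ?_
    have hall : ∀ x ∈ D, Equiv.Perm.sign (e x) = 1 := fun x hx => by
      obtain ⟨g, rfl⟩ := class_conj hD hd hx
      simp [h1]
    have hle : Subgroup.closure D ≤ (Equiv.Perm.sign.comp e.toMonoidHom).ker := by
      rw [Subgroup.closure_le]; exact fun x hx => hall x hx
    obtain ⟨g, hg'⟩ := e.surjective (Equiv.swap ⟨0, by omega⟩ ⟨1, by omega⟩)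
    have h2 : Equiv.Perm.sign (e g) = 1 := hle (by rw [hD.2.2]; exact Subgroup.mem_top g)
    rw [hg', Equiv.Perm.sign_swap (by simp)] at h2
    exact absurd h2 (by decide)
  ext σ
  constructor
  · rintro ⟨d, hd, rfl⟩
    exact hsw _ (by rw [← map_mul, mul_self hD.1 hd, map_one])
      (fun h => ne_one hD.1 hd (e.injective (h.trans (map_one e).symm))) (hodd d hd)
  · rintro ⟨a, b, hab, rfl⟩
    obtain ⟨a₀, b₀, hab₀, h0⟩ := hsw (e d₀) (by rw [← map_mul, mul_self hD.1 hd₀, map_one])
      (fun h => ne_one hD.1 hd₀ (e.injective (h.trans (map_one e).symm))) (hodd d₀ hd₀)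
    obtain ⟨π, hπ⟩ := isConj_iff.1 (Equiv.Perm.isConj_swap hab₀ hab)
    obtain ⟨g, rfl⟩ := e.surjective π
    exact ⟨g * d₀ * g⁻¹, hg.2.1 g d₀ hd₀, by rw [map_mul, map_mul, map_inv, h0, hπ]⟩

/-- A derived group of prime order: the symmetric group of degree three. -/
theorem equiv_perm_three [Finite G] (hZ : Subgroup.center G = ⊥) (hD : IsThreeTranspositionClass D)
    (hS : IsSimpleGroup (commutator G)) (hsol : Group.IsSolvable ↥(commutator G)) :
    ∃ e : G ≃* Equiv.Perm (Fin 3), e '' D = {σ : Equiv.Perm (Fin 3) | σ.IsSwap} := by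
  classical
  have hg := group_of_class hD
  have hcomm : ∀ a b : commutator G, a * b = b * a := IsSimpleGroup.comm_iff_isSolvable.2 hsol
  obtain ⟨d, hd, hcl⟩ := id hD.2.1
  -- all members lie in one coset
  have hcoset : ∀ x ∈ D, d * x ∈ commutator G := by
    intro x hx
    obtain ⟨g, rfl⟩ := class_conj hD hd hx
    have : d * (g * d * g⁻¹) = d * g * d⁻¹ * g⁻¹ := by rw [inv_eq hD.1 hd]; group
    rw [this]
    exact Subgroup.commutator_mem_commutator (Subgroup.mem_top d) (Subgroup.mem_top g)
  have hcard2 : ∀ g : G, g ∈ commutator G ∨ d * g ∈ commutator G := by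
    intro g
    have hmem : g ∈ Subgroup.closure D := by rw [hD.2.2]; exact Subgroup.mem_top g
    induction hmem using Subgroup.closure_induction with
    | mem x hx => exact Or.inr (hcoset x hx)
    | one => exact Or.inl (one_mem _)
    | mul a b _ _ ha hb =>
      have hn : ∀ c, c ∈ commutator G → d * c * d ∈ commutator G := fun c hc => by
        have := (show (commutator G).Normal from inferInstance).conj_mem c hc d
        rwa [inv_eq hD.1 hd] at this
      rcases ha with ha | ha <;> rcases hb with hb | hb
      · exact Or.inl (mul_mem ha hb)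
      · exact Or.inr (by
          have := mul_mem (hn a ha) hb
          rwa [show d * a * d * (d * b) = d * (a * b) by
            simp only [mul_assoc, mul_self_cancel hD.1 hd]] at this)
      · exact Or.inr (by rw [← mul_assoc]; exact mul_mem ha hb)
      · exact Or.inl (by
          have := mul_mem (hn _ ha) hb
          rwa [show d * (d * a) * d * (d * b) = a * b by
            simp only [mul_assoc, mul_self_cancel hD.1 hd]] at this)
    | inv a _ ha =>
      rcases ha with ha | ha
      · exact Or.inl (inv_mem ha)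
      · refine Or.inr ?_
        have := (show (commutator G).Normal from inferInstance).conj_mem _ (inv_mem ha) d
        rwa [mul_inv_rev, inv_eq hD.1 hd, mul_assoc, mul_assoc, mul_self hD.1 hd, mul_one] at this
  have hnonab : ∃ c ∈ commutator G, ¬ Commute d c := by
    by_contra hcon
    push Not at hcon
    have hdc : d ∈ Subgroup.center G := by
      rw [Subgroup.mem_center_iff]
      intro g
      rcases hcard2 g with h | h
      · exact (hcon g h).eq.symm
      · have := (hcon _ h).eq
        rw [← mul_assoc, mul_self hD.1 hd, one_mul] at this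
        exact mul_left_cancel (a := d) (by rw [← mul_assoc, ← mul_assoc, mul_self hD.1 hd, one_mul, ← this])
    exact ne_one hD.1 hd (by rwa [hZ, Subgroup.mem_bot] at hdc)
  obtain ⟨c, hc, hdc⟩ := hnonab
  -- the derived group has order three
  set e' : G := c * d * c⁻¹ with he'
  have he'D : e' ∈ D := hg.2.1 c d hd
  have hne : e' ≠ d := fun h => hdc (by
    show d * c = c * d
    rw [he', mul_inv_eq_iff_eq_mul] at h
    exact h.symm)
  set w := d * e' with hw
  have hwc : w ∈ commutator G := hcoset e' he'D
  have hw1 : w ≠ 1 := fun h => hne (by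
    rw [hw, mul_eq_one_iff_eq_inv, inv_eq hD.1 he'D] at h; exact h.symm)
  let : CommGroup (commutator G) :=
    { (inferInstance : Group (commutator G)) with mul_comm := hcomm }
  have hprime : (Nat.card (commutator G)).Prime := IsSimpleGroup.prime_card
  have hw3 : w ^ 3 = 1 := by
    refine pow_three_of_not_commute hD.1 hd he'D fun hcom => ?_
    have h2 : w ^ 2 = 1 := by
      rw [hw, hcom.mul_pow, pow_two, pow_two, mul_self hD.1 hd, mul_self hD.1 he'D, one_mul]
    -- a derived group of order two would be central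
    have ho : orderOf (⟨w, hwc⟩ : commutator G) = 2 :=
      orderOf_eq_prime (Subtype.ext h2) fun h => hw1 (congrArg Subtype.val h)
    have hcard : Nat.card (commutator G) = 2 := by
      rcases hprime.eq_one_or_self_of_dvd 2 (ho ▸ orderOf_dvd_natCard _) with h | h
      · omega
      · exact h.symm
    have hcen : c ∈ Subgroup.center G := by
      rw [Subgroup.mem_center_iff]
      intro g
      have hgc : g * c * g⁻¹ ∈ commutator G := (show (commutator G).Normal from inferInstance).conj_mem c hc g
      have key : ∀ x : commutator G, x = 1 ∨ x = ⟨w, hwc⟩ := by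
        intro x
        obtain ⟨u, v, huv, hset⟩ := Nat.card_eq_two_iff.1 hcard
        have h1 : ∀ y : commutator G, y = u ∨ y = v := fun y => by
          have := hset.symm ▸ Set.mem_univ y; simpa using this
        have hw1' : (⟨w, hwc⟩ : commutator G) ≠ 1 := fun h => hw1 (congrArg Subtype.val h)
        rcases h1 1 with a | a <;> rcases h1 ⟨w, hwc⟩ with b | b <;> rcases h1 x with z | z <;>
          first
          | exact absurd (b.trans a.symm) hw1'
          | exact Or.inl (z.trans a.symm)
          | exact Or.inr (z.trans b.symm)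
      have hc1 : c ≠ 1 := fun h => hdc (h ▸ Commute.one_right d)
      have hcw : c = w := congrArg Subtype.val ((key ⟨c, hc⟩).resolve_left fun h =>
        hc1 (congrArg Subtype.val h))
      rcases key ⟨_, hgc⟩ with h | h
      · have : g * c * g⁻¹ = 1 := congrArg Subtype.val h
        exact absurd (conj_eq_one_iff.1 this) hc1
      · have : g * c * g⁻¹ = w := congrArg Subtype.val h
        rwa [← hcw, mul_inv_eq_iff_eq_mul] at this
    exact hdc (Subgroup.mem_center_iff.1 hcen d)
  have hcard3 : Nat.card (commutator G) = 3 := by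
    have : Fact (Nat.Prime 3) := ⟨Nat.prime_three⟩
    have ho : orderOf (⟨w, hwc⟩ : commutator G) = 3 :=
      orderOf_eq_prime (Subtype.ext hw3) fun h => hw1 (congrArg Subtype.val h)
    rcases hprime.eq_one_or_self_of_dvd 3 (ho ▸ orderOf_dvd_natCard _) with h | h
    · omega
    · exact h.symm
  -- the members and the action on them
  have hmap : ∀ x : D, d * (x : G) ∈ commutator G := fun x => hcoset x x.2
  have hDle : Nat.card D ≤ 3 := by
    rw [← hcard3]
    exact Nat.card_le_card_of_injective (fun x : D => (⟨d * x, hmap x⟩ : commutator G))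
      fun x y h => Subtype.ext (mul_left_cancel (congrArg Subtype.val h))
  let C : G →* Equiv.Perm D :=
    { toFun := fun a => ⟨fun x => ⟨a * x * a⁻¹, hg.2.1 a x x.2⟩,
        fun x => ⟨a⁻¹ * x * a⁻¹⁻¹, hg.2.1 a⁻¹ x x.2⟩,
        fun x => Subtype.ext (show a⁻¹ * (a * x * a⁻¹) * a⁻¹⁻¹ = x by group),
        fun x => Subtype.ext (show a * (a⁻¹ * x * a⁻¹⁻¹) * a⁻¹ = x by group)⟩
      map_one' := Equiv.ext fun x => Subtype.ext (by simp)
      map_mul' := fun a b => Equiv.ext fun x => Subtype.ext
        (show a * b * x * (a * b)⁻¹ = a * (b * x * b⁻¹) * a⁻¹ by group) }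
  have hCi : Function.Injective C := by
    rw [injective_iff_map_eq_one]
    intro a ha
    have hcen : a ∈ Subgroup.center G := commute_all_of_gen hD.2.2 fun x hx => by
      have h1 : a * x * a⁻¹ = x :=
        congrArg Subtype.val (Equiv.ext_iff.1 ha ⟨x, hx⟩)
      exact (mul_inv_eq_iff_eq_mul.1 h1).symm
    rwa [hZ, Subgroup.mem_bot] at hcen
  have h6 : 6 ≤ Nat.card G := by
    have h1 := Subgroup.card_eq_card_quotient_mul_card_subgroup (commutator G)
    have h2 : 2 ≤ Nat.card (G ⧸ commutator G) := by
      rw [← Subgroup.index_eq_card]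
      refine Subgroup.one_lt_index_of_ne_top fun htop => hdc ?_
      have hd' : d ∈ commutator G := htop ▸ Subgroup.mem_top d
      exact congrArg Subtype.val (hcomm ⟨d, hd'⟩ ⟨c, hc⟩)
    rw [h1, hcard3]; omega
  have hDc : Nat.card D = 3 := by
    have h1 := Nat.card_le_card_of_injective C hCi
    rw [Nat.card_perm] at h1
    interval_cases h : Nat.card D <;> simp_all [Nat.factorial] <;> omega
  have hG6 : Nat.card G = 6 := by
    have h1 := Nat.card_le_card_of_injective C hCi
    rw [Nat.card_perm, hDc] at h1
    exact le_antisymm (by simpa [Nat.factorial] using h1) h6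
  have hCb : Function.Bijective C :=
    (Nat.bijective_iff_injective_and_card C).2 ⟨hCi, by rw [Nat.card_perm, hDc, hG6]; rfl⟩
  let eD : D ≃ Fin 3 := (Finite.equivFinOfCardEq hDc)
  let e : G ≃* Equiv.Perm (Fin 3) :=
    (MulEquiv.ofBijective C hCb).trans eD.permCongrHom
  exact ⟨e, swaps_of_class (by norm_num) sign_pos_of_sq_three hD e⟩

variable [Finite G]

/-- Fischer's classification, reduced to the case of central local cores. -/
theorem fischer_cases (hD : IsThreeTranspositionClass D) (hZ : Subgroup.center G = ⊥)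
    (hS : IsSimpleGroup (commutator G)) :
    (∃ n : ℕ, ∃ e : G ≃* Equiv.Perm (Fin n), e '' D = {σ : Equiv.Perm (Fin n) | σ.IsSwap}) ∨
    (∃ m : ℕ, ∃ e : G ≃* Matrix.symplecticGroup (Fin m) (ZMod 2),
      e '' D = {g : Matrix.symplecticGroup (Fin m) (ZMod 2) |
        ((g : Matrix (Fin m ⊕ Fin m) (Fin m ⊕ Fin m) (ZMod 2)) - 1).rank = 1}) ∨
    (∃ (n : ℕ) (F : Type) (_ : Field F) (_ : Fintype F), Fintype.card F = 4 ∧
      ∃ e : G ≃* Cfsg.PSU n F 2,
        e '' D = (QuotientGroup.mk : ↥(Cfsg.SU n F 2) → Cfsg.PSU n F 2) ''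
          {g : ↥(Cfsg.SU n F 2) | (((g : Matrix.SpecialLinearGroup (Fin n) F) :
            Matrix (Fin n) (Fin n) F) - 1).rank = 1}) ∨
    (IsPrimitiveUnderConj D ∧ ConnectedComm D ∧ TrivialRadical G ∧
      ∀ x ∈ D, (adj D x).Nonempty ∧ CentralCores (Loc D x)) := by
  by_cases hsol : Group.IsSolvable ↥(commutator G)
  · exact Or.inl ⟨3, equiv_perm_three hZ hD hS hsol⟩
  have hperf : ⁅commutator G, commutator G⁆ = commutator G := by
    rcases hS.eq_bot_or_eq_top_of_normal (commutator (commutator G)) inferInstance with h | h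
    · exfalso
      exact hsol (IsSimpleGroup.comm_iff_isSolvable.1 fun a b => by
        have := Subgroup.commutator_mem_commutator (Subgroup.mem_top a) (Subgroup.mem_top b)
        rw [← commutator_def, h, Subgroup.mem_bot] at this
        exact commutatorElement_eq_one_iff_mul_comm.1 this)
    · have := congrArg (Subgroup.map (commutator G).subtype) h
      rw [Subgroup.map_subtype_commutator, ← MonoidHom.range_eq_map, Subgroup.range_subtype] at this
      exact this
  have hrad := trivialRadical_of_simple_commutator hZ hS hsol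
  have hc := centralCores_of_trivialRadical hrad
  have hconn := connected_of_perfect hD hperf
  have h2 : ∃ a ∈ D, ∃ b ∈ D, a ≠ b := by
    by_contra h
    push Not at h
    apply hsol
    have : Group.IsSolvable G := Group.isSolvable_of_comm fun u v => by
      have key : ∀ u ∈ D, u ∈ Subgroup.center G := fun u hu => commute_all_of_gen hD.2.2
        fun e he => by rw [h e he u hu]
      have hv : v ∈ Subgroup.center G :=
        (Subgroup.closure_le _).2 key (by rw [hD.2.2]; exact Subgroup.mem_top v)
      exact Subgroup.mem_center_iff.1 hv u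
    infer_instance
  by_cases h2c : ∃ x ∈ D, ¬ pCore 2 ↥(Loc D x) ≤ Subgroup.center ↥(Loc D x)
  · obtain ⟨x, hx, hx2⟩ := h2c
    rcases recognition hrad hD hconn hx hx2 with h | h
    exacts [Or.inr (Or.inl h), Or.inr (Or.inr (Or.inl h))]
  by_cases h3c : ∃ x ∈ D, ¬ pCore 3 ↥(Loc D x) ≤ Subgroup.center ↥(Loc D x)
  · obtain ⟨x, hx, hx3⟩ := h3c
    obtain ⟨e⟩ := CoreNoncentral.equiv_perm_five hrad hperf hD hx fun h =>
      hx3 (SolvLocal.pCore_three_le_oddCore.trans h)
    exact Or.inl ⟨5, e, swaps_of_class (by norm_num) swap_of_odd_involution hD e⟩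
  push Not at h2c h3c
  refine Or.inr (Or.inr (Or.inr ⟨primitive_of_connected hD h2 hc hconn, hconn, hrad, fun x hx => ?_⟩))
  obtain ⟨u, hu, v, hv, huv, huvc⟩ := exists_commuting_pair hD h2 hc.2
  exact ⟨adj_nonempty_all hD hu hx ⟨v, hv, huv.symm, huvc⟩, h2c x hx, h3c x hx⟩

end Cfsg.Agent.FischerPolar
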