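/-
The simple groups among the 3-transposition groups.

Main results: `central_refl_scalar`, `equiv_pomega_of_refl`, `simple_cases`.
-/
import Cfsg.Agent.Lib.ThreeTrans.ReflThree
import Cfsg.Agent.Lib.Orth.ThreeTwo
import Cfsg.Agent.Lib.Orth.Models
import Cfsg.Agent.Lib.Forms.Classify
import Cfsg.Agent.Lib.Forms.Standard
import Cfsg.Agent.Lib.OrthBN.PlusFour

set_option autoImplicit false

namespace Cfsg.Agent.FischerPolar

open Cfsg Cfsg.Agent.Orth Cfsg.Agent.ThreeTrans
open QuadraticMap (polar)

variable {ι : Type} [Fintype ι] [DecidableEq ι] {Q : QuadraticForm (ZMod 3) (ι → ZMod 3)}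
  {c : ZMod 3}

theorem zmod_three_cancel : ∀ t : ZMod 3, t + t = 0 → t = 0 := by decide +kernel

/-- A member of the isometry group centralising the reflection group of one norm is a scalar. -/
theorem central_refl_scalar (hQ : Q.polarBilin.Nondegenerate) (hn : 5 ≤ Fintype.card ι) (hc : c ≠ 0)
    {z : IsoGrp Q} (hz : ∀ g ∈ reflectionSubgroup (⇑Q) c, Commute g z) :
    ∃ a : ZMod 3, ∀ x, ap z x = a • x := by
  have hG := good_three hQ
  obtain ⟨u, hu⟩ := exists_Q_eq hQ (by omega) c
  have hu' : Q u ≠ 0 := hu ▸ hc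
  -- the vector `u` is an eigenvector
  have he : refl Q (ap z u) = refl Q u := by
    rw [← conj_refl, ← (hz _ (refl_mem_reflSub hu)).eq, mul_inv_cancel_right]
  obtain ⟨a, ha⟩ : ∃ a : ZMod 3, ap z u = a • u := by
    have h1 := congrArg (fun g => ap g (ap z u)) he
    simp only [refl_ap, pl_self, Q_ap] at h1
    rw [show (Q u)⁻¹ * (2 * Q u) = 2 by field_simp] at h1
    refine ⟨((Q u)⁻¹ * polar ⇑Q u (ap z u)) * 2⁻¹, ?_⟩
    have h2 : ((2 : ZMod 3) • ap z u) = ((Q u)⁻¹ * polar ⇑Q u (ap z u)) • u := sub_right_inj.1 h1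
    rw [mul_comm, mul_smul, ← h2, smul_smul, inv_mul_cancel₀ (by decide : (2 : ZMod 3) ≠ 0), one_smul]
  -- so are all vectors of this norm, with the same value
  have hnorm : ∀ v, Q v = c → ap z v = a • v := by
    intro v hv
    obtain ⟨k, -, hk⟩ := exists_ap_eq hQ hG.ex hu' (hv.trans hu.symm)
    obtain ⟨k', hk'R, hk'⟩ : ∃ k' ∈ reflectionSubgroup (⇑Q) c, ap k' u = v := by
      by_cases hkR : k ∈ reflectionSubgroup (⇑Q) c
      · exact ⟨k, hkR, hk⟩
      obtain ⟨d, hd, hdc⟩ := zmod_three_other c hc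
      obtain ⟨w, huw, hw⟩ := exists_orth_norm hQ (by omega) hu' d
      have hwR : refl Q w ∉ reflectionSubgroup (⇑Q) c := by
        rw [mem_reflSub_iff hQ hn hc, dick_refl hQ (hw ▸ hd), if_neg (by decide),
          spin_refl3 hQ (hw ▸ hd), hw]
        exact fun h => hdc (zmod_three_qc hd hc h)
      refine ⟨k * refl Q w, (Subgroup.mul_mem_iff_of_index_two (reflSub_index hQ hn hc)).2
        ⟨fun h => absurd h hkR, fun h => absurd h hwR⟩, ?_⟩
      rw [ap_mul, refl_ap_of_orth Q (by rw [pl_comm]; exact huw), hk]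
    have := congrArg (fun g => ap g u) (hz k' hk'R).eq
    simp only [ap_mul, ha, map_smul, hk'] at this
    exact this.symm
  -- anisotropic vectors are combinations of these
  have haniso : ∀ y, Q y ≠ 0 → ap z y = a • y := by
    intro y hy
    obtain ⟨w, hyw, hw⟩ := exists_orth_norm hQ (by omega) hy (c - Q y)
    have h1 : Q (y + w) = c := by rw [Q_add, hyw, hw]; ring
    have h2 : Q (y - w) = c := by
      rw [sub_eq_add_neg, Q_add, QuadraticMap.map_neg, QuadraticMap.polar_neg_right, hyw, hw]; ring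
    have e1 := hnorm _ h1
    have e2 := hnorm _ h2
    rw [map_add, smul_add] at e1
    rw [map_sub, smul_sub] at e2
    funext i
    have q1 := congrFun e1 i
    have q2 := congrFun e2 i
    simp only [Pi.add_apply, Pi.sub_apply] at q1 q2
    have key := zmod_three_cancel (ap z y i - (a • y) i) (by linear_combination q1 + q2)
    exact sub_eq_zero.1 key
  refine ⟨a, fun y => ?_⟩
  by_cases hy : Q y = 0
  · have : Q (y + u) ≠ 0 ∨ Q (y - u) ≠ 0 := by
      by_contra hcon
      push Not at hcon
      obtain ⟨h1, h2⟩ := hcon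
      rw [Q_add, hy, hu] at h1
      rw [sub_eq_add_neg, Q_add, QuadraticMap.map_neg, QuadraticMap.polar_neg_right, hy, hu] at h2
      exact hc (zmod_three_cancel c (by linear_combination h1 + h2))
    rcases this with h | h
    · have e := haniso _ h
      rwa [map_add, smul_add, ha, add_left_inj] at e
    · have e := haniso _ h
      rwa [map_sub, smul_sub, ha, sub_left_inj] at e
  · exact haniso y hy

/-- A simple reflection group modulo its centre is the projective commutator group of an orthogonal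
group in odd dimension. -/
theorem equiv_pomega_of_refl {G : Type*} [Group G] [IsSimpleGroup G]
    (hna : ∃ x y : G, x * y ≠ y * x) {n : ℕ} (hn : 5 ≤ n)
    {Q : QuadraticForm (ZMod 3) (Fin n → ZMod 3)} (hQ : Q.polarBilin.Nondegenerate)
    (hc : c ≠ 0)
    (e : G ≃* ↥(reflectionSubgroup (⇑Q) c) ⧸ Subgroup.center ↥(reflectionSubgroup (⇑Q) c)) :
    ∃ m : ℕ, Nonempty (G ≃* POmega (ZMod 3) (quadFormOdd m (ZMod 3))) := by
  classical
  have hn' : 5 ≤ Fintype.card (Fin n) := by simpa using hn
  set R := reflectionSubgroup (⇑Q) c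
  set L := commutator ↥R with hL
  set Z := Subgroup.center ↥R
  -- the centre is not in the derived group
  obtain ⟨z, hzZ, hzL⟩ : ∃ z ∈ Z, z ∉ L := by
    by_contra hcon
    push Not at hcon
    have hperf : commutator (↥R ⧸ Z) = ⊤ := by
      have hG : commutator G = ⊤ := by
        rcases Subgroup.Normal.eq_bot_or_eq_top
          (inferInstance : (commutator G).Normal) with h | h
        · exfalso
          obtain ⟨x, y, hxy⟩ := hna
          have := Subgroup.commutator_mem_commutator (Subgroup.mem_top x) (Subgroup.mem_top y)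
          rw [← commutator_def, h, Subgroup.mem_bot] at this
          exact hxy (commutatorElement_eq_one_iff_mul_comm.1 this)
        · exact h
      have h2 : (commutator G).map e.toMonoidHom = commutator _ := by
        rw [commutator_def, commutator_def, Subgroup.map_commutator,
          Subgroup.map_top_of_surjective _ e.surjective]
      rw [← h2, hG, Subgroup.map_top_of_surjective _ e.surjective]
    have hsup : L ⊔ Z = ⊤ := by
      have h3 : L.map (QuotientGroup.mk' Z) = ⊤ := by
        rw [← hperf, hL, commutator_def, commutator_def, Subgroup.map_commutator,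
          Subgroup.map_top_of_surjective _ (QuotientGroup.mk'_surjective Z)]
      have := congrArg (Subgroup.comap (QuotientGroup.mk' Z)) h3
      rwa [Subgroup.comap_map_eq, QuotientGroup.ker_mk', Subgroup.comap_top] at this
    rw [sup_eq_left.2 fun x hx => hcon x hx] at hsup
    have h2 := index_commutator_reflSub hQ hn' hc
    rw [← hL, hsup, Subgroup.index_top] at h2
    omega
  obtain ⟨a, ha⟩ := central_refl_scalar hQ hn' hc (z := (z : IsoGrp Q)) fun g hg =>
    congrArg Subtype.val (Subgroup.mem_center_iff.1 hzZ ⟨g, hg⟩)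
  have hLmap : ∀ x : ↥R, x ∈ L ↔ (x : IsoGrp Q) ∈ Omega (ZMod 3) ⇑Q := fun x => by
    rw [← map_commutator_reflSub hQ hn' hc]
    exact (Subgroup.mem_map_iff_mem (Subgroup.subtype_injective _)).symm
  have ha1 : a = -1 := by
    have h0 : a ≠ 0 := fun h0 => by
      obtain ⟨u, hu⟩ := exists_Q_eq hQ (by omega) c
      have := Q_ap (z : IsoGrp Q) u
      rw [ha, h0, zero_smul, map_zero, hu] at this
      exact hc this.symm
    have key : ∀ t : ZMod 3, t ≠ 0 → t = 1 ∨ t = -1 := by decide +kernel
    refine (key a h0).resolve_left fun h1 => hzL ?_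
    have : z = 1 := Subtype.ext (ext_ap fun x => by rw [ha, h1, one_smul, Subgroup.coe_one, ap_one])
    rw [this]; exact one_mem _
  -- the dimension is odd
  have hres : resSpace (z : IsoGrp Q) = ⊤ := by
    rw [eq_top_iff]
    intro w _
    refine mem_resSpace.2 ⟨w, ?_⟩
    rw [ha, ha1]
    funext i
    have key : ∀ t : ZMod 3, (-1) * t - t = t := by decide +kernel
    simpa using key (w i)
  have hdick : dick (z : IsoGrp Q) = (-1) ^ n := by
    rw [dick, hres, finrank_top, Module.finrank_fin_fun]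
  have hodd : Odd n := by
    rw [← Nat.not_even_iff_odd]
    intro hev
    have h1 : dick (z : IsoGrp Q) = 1 := by rw [hdick, hev.neg_one_pow]
    have h2 := (mem_reflSub_iff hQ hn' hc (z : IsoGrp Q)).1 z.2
    rw [h1, if_pos rfl] at h2
    exact hzL ((hLmap z).2 ((mem_omega_iff (good_three hQ) _).2 ⟨h1, h2⟩))
  -- the quotient is that of the derived group
  let f : ↥L →* ↥R ⧸ Z := (QuotientGroup.mk' Z).comp L.subtype
  have hfs : Function.Surjective f := by
    intro q
    obtain ⟨x, rfl⟩ := QuotientGroup.mk'_surjective Z q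
    by_cases hx : x ∈ L
    · exact ⟨⟨x, hx⟩, rfl⟩
    · refine ⟨⟨x * z, (Subgroup.mul_mem_iff_of_index_two (index_commutator_reflSub hQ hn' hc)).2
        ⟨fun h => absurd h hx, fun h => absurd h hzL⟩⟩, ?_⟩
      show QuotientGroup.mk' Z (x * z) = _
      rw [map_mul, show QuotientGroup.mk' Z z = 1 from (QuotientGroup.eq_one_iff z).2 hzZ, mul_one]
  have hker : f.ker = Subgroup.center ↥L := by
    ext w
    rw [MonoidHom.mem_ker]
    show QuotientGroup.mk' Z (w : ↥R) = 1 ↔ _
    rw [QuotientGroup.mk'_apply, QuotientGroup.eq_one_iff]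
    refine ⟨fun h => Subgroup.mem_center_iff.2 fun v => Subtype.ext
      (Subgroup.mem_center_iff.1 h v), fun h => ?_⟩
    rw [Subgroup.mem_center_iff]
    intro x
    by_cases hx : x ∈ L
    · exact congrArg Subtype.val (Subgroup.mem_center_iff.1 h ⟨x, hx⟩)
    · have hxz : x * z ∈ L :=
        (Subgroup.mul_mem_iff_of_index_two (index_commutator_reflSub hQ hn' hc)).2
          ⟨fun h => absurd h hx, fun h => absurd h hzL⟩
      have h1 : x * z * (w : ↥R) = (w : ↥R) * (x * z) :=
        congrArg Subtype.val (Subgroup.mem_center_iff.1 h ⟨x * z, hxz⟩)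
      rw [mul_assoc, ← (Subgroup.mem_center_iff.1 hzZ (w : ↥R)), ← mul_assoc, ← mul_assoc] at h1
      exact mul_right_cancel h1
  let eL : ↥L ≃* ↥(Omega (ZMod 3) ⇑Q) :=
    (L.equivMapOfInjective R.subtype (Subgroup.subtype_injective _)).trans
      (MulEquiv.subgroupCongr (map_commutator_reflSub hQ hn' hc))
  have heZ : (Subgroup.center ↥L).map eL.toMonoidHom = Subgroup.center ↥(Omega (ZMod 3) ⇑Q) := by
    ext y
    simp only [Subgroup.mem_map, Subgroup.mem_center_iff]
    constructor
    · rintro ⟨w, hw, rfl⟩ g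
      obtain ⟨u, rfl⟩ := eL.surjective g
      exact ((map_mul eL u w).symm.trans (congrArg eL (hw u))).trans (map_mul eL w u)
    · intro hy
      obtain ⟨w, rfl⟩ := eL.surjective y
      refine ⟨w, fun u => eL.injective ?_, rfl⟩
      rw [map_mul, map_mul, hy]
  let e₁ : (↥R ⧸ Z) ≃* POmega (ZMod 3) ⇑Q :=
    (QuotientGroup.quotientKerEquivOfSurjective f hfs).symm.trans
      ((QuotientGroup.quotientMulEquivOfEq hker).trans (QuotientGroup.congr _ _ eL heZ))
  -- the form is similar to the standard one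
  obtain ⟨m, E⟩ : ∃ m : ℕ, ∃ (E : (Unit ⊕ (Fin m ⊕ Fin m) → ZMod 3) ≃ₗ[ZMod 3] (Fin n → ZMod 3))
      (d : ZMod 3), d ≠ 0 ∧ ∀ v, Q (E v) = d * quadFormOdd m (ZMod 3) v := by
    rcases Forms.classify Q hQ with ⟨m, E, -⟩ | ⟨m, a, b, E, -⟩ | ⟨m, d, E, hd, -, he⟩
    · exfalso
      have := E.finrank_eq
      simp at this
      rw [← this, ← two_mul] at hodd
      exact (Nat.not_odd_iff_even.2 (even_two_mul m)) hodd
    · exfalso
      have := E.finrank_eq
      simp at this
      rw [← this] at hodd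
      exact (Nat.not_odd_iff_even.2 ⟨m + 1, by omega⟩) hodd
    · exact ⟨m, E, d, hd, fun v => by rw [he, Forms.qfOdd_apply]⟩
  obtain ⟨E, d, hd, hE⟩ := E
  obtain ⟨e₂⟩ := OrthBN.pomega_congr ((Forms.isometryGroupEquiv (quadFormOdd m (ZMod 3))).trans
    ((Forms.preservingFunCongr (quadFormOdd m (ZMod 3)) (⇑Q) E d hd hE).trans
      (Forms.isometryGroupEquiv (⇑Q)).symm))
  exact ⟨m, ⟨(e.trans e₁).trans e₂.symm⟩⟩

/-- An orthogonal group over two elements is not a non-abelian simple group. -/
theorem not_simple_iso {G : Type*} [Group G] [IsSimpleGroup G] (hna : ∃ x y : G, x * y ≠ y * x)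
    {ι : Type} [Fintype ι] [DecidableEq ι] {Q : QuadraticForm (ZMod 2) (ι → ZMod 2)}
    (hQ : Q.polarBilin.Nondegenerate) (hn : Fintype.card ι ≠ 4) {v : ι → ZMod 2} (hv : Q v ≠ 0)
    (e : G ≃* IsoGrp Q) : False := by
  have hG : Good Q := ⟨hQ, Or.inr hn⟩
  let f : G →* ℤ := (dickHom hG).comp e.toMonoidHom
  rcases Subgroup.Normal.eq_bot_or_eq_top (inferInstance : f.ker.Normal) with h | h
  · obtain ⟨x, y, hxy⟩ := hna
    refine hxy ?_
    have h1 : x * y * x⁻¹ * y⁻¹ ∈ f.ker := by
      rw [MonoidHom.mem_ker]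
      have hinv : ∀ a, f a * f a⁻¹ = 1 := fun a => by rw [← map_mul, mul_inv_cancel, map_one]
      rw [map_mul, map_mul, map_mul,
        show f x * f y * f x⁻¹ * f y⁻¹ = (f x * f x⁻¹) * (f y * f y⁻¹) by ring, hinv, hinv, one_mul]
    rw [h, Subgroup.mem_bot, mul_inv_eq_one, mul_inv_eq_iff_eq_mul] at h1
    exact h1
  · obtain ⟨g, hg⟩ := e.surjective (refl Q v)
    have h1 : f g = 1 := MonoidHom.mem_ker.1 (h ▸ Subgroup.mem_top g)
    change dick (e g) = 1 at h1
    rw [hg, dick_refl hQ hv] at h1
    exact absurd h1 (by decide)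

/-- A symmetric group is not a non-abelian simple group. -/
theorem not_simple_perm {G : Type*} [Group G] [IsSimpleGroup G] (hna : ∃ x y : G, x * y ≠ y * x)
    {n : ℕ} (e : G ≃* Equiv.Perm (Fin n)) : False := by
  obtain ⟨x, y, hxy⟩ := hna
  let f : G →* ℤˣ := Equiv.Perm.sign.comp e.toMonoidHom
  rcases Subgroup.Normal.eq_bot_or_eq_top (inferInstance : f.ker.Normal) with h | h
  · exact hxy ((MonoidHom.ker_eq_bot_iff f).1 h (by rw [map_mul, map_mul, mul_comm]))
  · rcases Nat.lt_or_ge n 2 with hn | hn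
    · have : Subsingleton (Fin n) := by interval_cases n <;> infer_instance
      exact hxy (e.injective (Subsingleton.elim _ _))
    · obtain ⟨g, hg⟩ := e.surjective (Equiv.swap ⟨0, by omega⟩ ⟨1, by omega⟩)
      have h1 : f g = 1 := MonoidHom.mem_ker.1 (h ▸ Subgroup.mem_top g)
      change Equiv.Perm.sign (e g) = 1 at h1
      rw [hg, Equiv.Perm.sign_swap (by simp)] at h1
      exact absurd h1 (by decide)

end Cfsg.Agent.FischerPolar
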