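/-
Simple groups generated by a class of 3-transpositions, given the classification with central local cores.

Main results: `simple_cases`.
-/
import Cfsg.Agent.Lib.FischerPolar.Reduction
import Cfsg.Agent.Lib.FischerPolar.SimpleGlue
import Cfsg.Agent.Lib.FischerM22.Iso
import Cfsg.Agent.Lib.FischerM22.Total
import Cfsg.Agent.Lib.FischerM23.Total
import Cfsg.Agent.Lib.FischerM24.Parity
import Cfsg.Agent.S1696

set_option autoImplicit false

namespace Cfsg.Agent.FischerPolar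

open Cfsg Cfsg.Agent.ThreeTrans Cfsg.Agent.ThreeTransRank
open scoped MatrixGroups

/-- The conclusion of the classification with central local cores. -/
def CentralConcl (G : Type*) [Group G] (D : Set G) : Prop :=
  (∃ n : ℕ, 7 ≤ n ∧ ∃ e : G ≃* Equiv.Perm (Fin n), e '' D = {σ : Equiv.Perm (Fin n) | σ.IsSwap}) ∨ ((∃ m : ℕ, 3 ≤ m ∧ ∃ e : G ≃* ↥(Cfsg.isometryGroup (ZMod 2) (Cfsg.quadFormPlus m (ZMod 2))), e '' D = {g : ↥(Cfsg.isometryGroup (ZMod 2) (Cfsg.quadFormPlus m (ZMod 2))) | (((g : GL (Fin m ⊕ Fin m) (ZMod 2)) : Matrix (Fin m ⊕ Fin m) (Fin m ⊕ Fin m) (ZMod 2)) - 1).rank = 1}) ∨ (∃ m : ℕ, 2 ≤ m ∧ ∃ e : G ≃* ↥(Cfsg.isometryGroup (ZMod 2) (Cfsg.quadFormMinus m (ZMod 2) 1 1)), e '' D = {g : ↥(Cfsg.isometryGroup (ZMod 2) (Cfsg.quadFormMinus m (ZMod 2) 1 1)) | (((g : GL ((Fin m ⊕ Fin m) ⊕ Fin 2) (ZMod 2)) : Matrix ((Fin m ⊕ Fin m) ⊕ Fin 2) ((Fin m ⊕ Fin m) ⊕ Fin 2) (ZMod 2)) - 1).rank = 1})) ∨ (∃ n : ℕ, 5 ≤ n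 ∧ ∃ Q : QuadraticForm (ZMod 3) (Fin n → ZMod 3), (QuadraticMap.polarBilin Q).Nondegenerate ∧ ∃ c : ZMod 3, c ≠ 0 ∧ ∃ e : G ≃* ↥(Cfsg.reflectionSubgroup (⇑Q) c) ⧸ Subgroup.center ↥(Cfsg.reflectionSubgroup (⇑Q) c), e '' D = (QuotientGroup.mk : ↥(Cfsg.reflectionSubgroup (⇑Q) c) → _) '' {g : ↥(Cfsg.reflectionSubgroup (⇑Q) c) | (g : ↥(Cfsg.isometryGroup (ZMod 3) (⇑Q))) ∈ Cfsg.reflectionsOfNorm (⇑Q) c}) ∨ (Cfsg.IsOfTypeM22 G D ∨ Cfsg.IsOfTypeM23 G D ∨ Cfsg.IsOfTypeM24 G D)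

variable {G : Type*} [Group G] [Finite G] {D : Set G}

/-- The simple 3-transposition groups. -/
theorem simple_cases [IsSimpleGroup G] (hna : ∃ x y : G, x * y ≠ y * x)
    (hD : IsThreeTranspositionClass D)
    (hmain : IsPrimitiveUnderConj D → Subgroup.center G = ⊥ → TrivialRadical G → ConnectedComm D →
      (∀ x ∈ D, (adj D x).Nonempty ∧ CentralCores (Loc D x)) → CentralConcl G D) :
    (∃ n : ℕ, Nonempty (G ≃* Matrix.symplecticGroup (Fin n) (ZMod 2))) ∨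
      (∃ (F : Type) (_ : Field F) (_ : Fintype F) (n : ℕ), Fintype.card F = 4 ∧
        Nonempty (G ≃* Cfsg.PSU n F 2)) ∨
      (∃ m : ℕ, Nonempty (G ≃* Cfsg.POmega (ZMod 3) (Cfsg.quadFormOdd m (ZMod 3)))) ∨
      Cfsg.IsFi22 G ∨ Cfsg.IsFi23 G := by
  have hcomm : commutator G = ⊤ := by
    rcases Subgroup.Normal.eq_bot_or_eq_top (inferInstance : (commutator G).Normal) with h | h
    · exfalso
      obtain ⟨x, y, hxy⟩ := hna
      have := Subgroup.commutator_mem_commutator (Subgroup.mem_top x) (Subgroup.mem_top y)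
      rw [← commutator_def, h, Subgroup.mem_bot] at this
      exact hxy (commutatorElement_eq_one_iff_mul_comm.1 this)
    · exact h
  have hZ : Subgroup.center G = ⊥ := by
    refine (Subgroup.Normal.eq_bot_or_eq_top inferInstance).resolve_right fun h => ?_
    obtain ⟨x, y, hxy⟩ := hna
    exact hxy (Subgroup.mem_center_iff.1 (h ▸ Subgroup.mem_top y) x)
  have hS : IsSimpleGroup (commutator G) :=
    ((MulEquiv.subgroupCongr hcomm).trans Subgroup.topEquiv).isSimpleGroup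
  rcases fischer_cases hD hZ hS with ⟨n, e, -⟩ | ⟨m, e, -⟩ | ⟨n, F, _, _, hF, e, -⟩ |
      ⟨hprim, hconn, hrad, hloc⟩
  · exact (not_simple_perm hna e).elim
  · exact Or.inl ⟨m, ⟨e⟩⟩
  · exact Or.inr (Or.inl ⟨F, inferInstance, inferInstance, n, hF, ⟨e⟩⟩)
  have hg := group_of_class hD
  rcases hmain hprim hZ hrad hconn hloc with
    ⟨n, -, e, -⟩ | (⟨m, hm, e, -⟩ | ⟨m, hm, e, -⟩) | ⟨n, hn, Q, hQ, c, hc, e, -⟩ | h | h | h
  · exact (not_simple_perm hna e).elim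
  · obtain ⟨k, rfl⟩ : ∃ k, m = k + 1 := ⟨m - 1, by omega⟩
    exact (not_simple_iso hna (Q := Orth.quadPlus (k + 1) (ZMod 2)) (Orth.quadPlus_nondeg _)
      (by simp; omega) (v := Pi.single (.inl 0) 1 + Pi.single (.inr 0) 1)
      (by rw [Orth.Q_add]
          simp [Orth.coe_quadPlus, Orth.polar_quadPlus, quadFormPlus, Pi.single_apply]) e).elim
  · exact (not_simple_iso hna (Q := Orth.quadMinus m (ZMod 2) 1 1)
      (Orth.quadMinus_nondeg m (by unfold Orth.Aniso; decide)) (by simp; omega)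
      (v := Pi.single (.inr 0) 1) (by simp [Orth.coe_quadMinus, quadFormMinus]) e).elim
  · exact Or.inr (Or.inr (Or.inl (equiv_pomega_of_refl hna hn hQ hc e)))
  · obtain ⟨e⟩ := FischerM22.iso_fi22 (FischerM22.setup_of_primitive hg hprim h)
    refine Or.inr (Or.inr (Or.inr (Or.inl ⟨inferInstance, ?_⟩)))
    rw [Nat.card_congr e.toEquiv, S1696.result.2]
  · refine Or.inr (Or.inr (Or.inr (Or.inr ⟨inferInstance, ?_⟩)))
    rw [FischerM23.group_card (FischerM23.setup_of_primitive hg hprim h)]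
  · exfalso
    have S := FischerM24.setup_of_primitive hg hprim h
    have hi := FischerM24.layer_index S
    have hn : (layer G).Normal := Subgroup.normal_of_index_eq_two hi
    rcases hn.eq_bot_or_eq_top with hl | hl <;> rw [hl] at hi
    · rw [Subgroup.index_bot, FischerM24.group_card S] at hi
      norm_num at hi
    · rw [Subgroup.index_top] at hi
      omega

end Cfsg.Agent.FischerPolar
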